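import Groth.Agent.RedSub.H663.CommuteK
import Groth.Agent.RedSub.H652.CommonTorus
import Groth.Agent.RedSub.H664.LeviSub

/-!
# `D5All k` for `k` finite and for `k` algebraically closed

Any two cocharacters of a reductive group over `k` have commuting conjugates under rational points
of their unipotent groups.
-/

set_option autoImplicit false
set_option linter.unusedSectionVars false

universe u

open CategoryTheory MonoidalCategory CartesianMonoidalCategory MonObj GrpObj AlgebraicGeometry Limits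
open Groth.Agent.Sga3B Groth.Agent.Sga3B.Parab Groth.Agent.Sga3B.Parab.DynExist998
open Groth.Agent.RedSub.H663.CommuteLim Groth.Agent.RedSub.H663.CommuteK

namespace Groth.Agent.RedSub.H663.D5All

/-- Two parabolic subgroups over an algebraically closed field contain a common maximal torus. -/
theorem commonTorus (K : Type u) [Field K] [IsAlgClosed K] : CommonTorus K :=
  fun H P₁ Q₁ _ _ _ p₁ q₁ hH hp hq => H652.CommonTorus.h411 K H P₁ Q₁ p₁ q₁ hH hp hq

/-- **`D5` over a finite field.** -/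
theorem d5All_finite (k : Type u) [Field k] [Finite k] : H664.LeviSub.D5All k := by
  intro H _ hH α β hα hβ
  have h1 := hH.1
  have h2 := hH.2.1
  obtain ⟨U, _, u, hu, -⟩ := exists_isDynU α
  obtain ⟨V, _, v, hv, -⟩ := exists_isDynU β
  obtain ⟨a, b, h⟩ := exists_comm (fun K _ _ => commonTorus K) hH α β hu hv
  exact ⟨a ≫ u, b ≫ v, (hu.iff_ptU _ _).1 ⟨a, rfl⟩, (hv.iff_ptU _ _).1 ⟨b, rfl⟩, h⟩

/-- **`D5` over an algebraically closed field.** -/
theorem d5All_algClosed (K : Type u) [Field K] [IsAlgClosed K] : H664.LeviSub.D5All K := by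
  intro H _ hH α β hα hβ
  have h1 := hH.1
  have h2 := hH.2.1
  obtain ⟨U, _, u, hu, -⟩ := exists_isDynU α
  obtain ⟨V, _, v, hv, -⟩ := exists_isDynU β
  obtain ⟨Q, _, q, hq, -⟩ := exists_isDynP β
  obtain ⟨a, ha⟩ := exists_conjIn_parabolic (commonTorus K) hH α β hu hq
  obtain ⟨α', hα'⟩ := ha _ (toUnit _) (𝟙 (Red.Gm (Spec (CommRingCat.of K))))
  have hα'' : α' ≫ q = cjl (a ≫ u) α := by
    rw [hα', cjl, Category.id_comp]
  obtain ⟨Z, _, z, hz, -⟩ := exists_isDynZ (cjl (a ≫ u) α)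
  obtain ⟨b, hb⟩ := exists_conjIn_centralizer hH (cjl (a ≫ u) α) β hv hq hz α' hα''
  refine ⟨a ≫ u, b ≫ v, (hu.iff_ptU _ _).1 ⟨a, rfl⟩, (hv.iff_ptU _ _).1 ⟨b, rfl⟩, fun X s t => ?_⟩
  have h3 := (ptZ_iff_centralizes _).1 ((hz.iff_ptZ _ _).1 (hb X (toUnit X) t)) X (𝟙 X) s
  rw [Category.id_comp, ← isConj_cjl (b ≫ v) β X t] at h3
  exact h3.symm

end Groth.Agent.RedSub.H663.D5All
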