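import Groth.Agent.RedSub.H663.CommuteLim
import Groth.Agent.Sga3B.Parab.PbK2
import Groth.Agent.Sga3B.Parab.Uncond688
import Groth.Agent.Sga3B.RG.PbK1of763
import Groth.Agent.Sga3B.Par.CanTor
import Groth.Agent.Sga3B.Par.RCHom742

/-!
# Cocharacters and maximal tori over an algebraically closed field

* `exists_maximalTorus_cochar`: a cocharacter of an affine group of finite type lies in a maximal
  torus.
* `exists_conj_cochar`: if `P_G(λ)` contains a maximal torus `T` of the reductive group `G`, some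
  conjugate of `λ` by a point of `U_G(λ)` lies in `T`.
-/

set_option autoImplicit false
set_option linter.unusedSectionVars false

universe u

open CategoryTheory MonoidalCategory CartesianMonoidalCategory MonObj GrpObj AlgebraicGeometry Limits
open scoped LaurentPolynomial Polynomial
open Groth.Agent.Books.AffBridge Groth.Agent.Books.AffBridge2
open Groth.Agent.Books.AlgPts Groth.Agent.Books.AlgPtsGrp Groth.Agent.Books.AlgPtsIrred
open Groth.Agent.Sga3B Groth.Agent.Sga3C.SubGrp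
open Groth.Agent.Sga3B.RG Groth.Agent.Sga3B.RG.BrPts Groth.Agent.Sga3B.RG.BrHc
open Groth.Agent.Sga3B.RG.BrTorus
open Groth.Agent.Sga3B.Parab Groth.Agent.Sga3B.Parab.Chart998 Groth.Agent.Sga3B.Parab.AffPts998
open Groth.Agent.Sga3B.Parab.Dyn998 Groth.Agent.Sga3B.Parab.DynExist998
open Groth.Agent.Sga3B.Parab.DynLevi998 Groth.Agent.Sga3B.Parab.DynClosed998
open Groth.Agent.Sga3B.Par.ConjDyn895
open Groth.Agent.RedSub.H663.CommuteLim

namespace Groth.Agent.RedSub.H663.CommuteTor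

variable {K : Type u} [Field K] [IsAlgClosed K]

/-- A cocharacter of an affine group of finite type over an algebraically closed field lies in a
maximal torus. -/
theorem exists_maximalTorus_cochar (G : Over (Spec (CommRingCat.of K))) [GrpObj G] [IsAffine G.left]
    [LocallyOfFiniteType G.hom] (c : Red.Gm (Spec (CommRingCat.of K)) ⟶ G) [IsMonHom c] :
    ∃ (T : Over (Spec (CommRingCat.of K))) (_ : GrpObj T) (i : T ⟶ G), Red.IsMaximalTorus i ∧
      ∃ c' : Red.Gm (Spec (CommRingCat.of K)) ⟶ T, IsMonHom c' ∧ c' ≫ i = c := by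
  obtain ⟨A, _, _, e, he, hft⟩ := exists_hopf_ft G
  obtain ⟨T', hT', hc⟩ := PbK1of763.exists_isMaxTorusSub_cochIn (lamB c (chartId e))
  obtain ⟨T, _, i, hi, hT, hcl, hTT⟩ := exists_of_isTorusSub hT'.1
  have hm : Mono i := Books.AlgPtsGrp.mono_of_isClosedImmersion i
  have hinv : IsMonHom e.inv := inferInstance
  have hm2 : Mono (i ≫ e.inv) := mono_comp _ _
  have h1 : (i ≫ e.inv) ≫ e.hom = i := by rw [Category.assoc, Iso.inv_hom_id, Category.comp_id]
  have h2 : ptsSub ((i ≫ e.inv) ≫ e.hom) = ptsSub i := by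
    ext g
    rw [mem_ptsSub, mem_ptsSub, h1]
  obtain ⟨l, hl, hlB⟩ := PbK2.exists_gm_hom e (i ≫ e.inv) hT (lamB c (chartId e)) (fun t => by
    rw [h2, hTT]
    exact hc t)
  have hlm : IsMonHom (l ≫ i ≫ e.inv) := inferInstance
  have hlB' := @hlB hlm
  refine ⟨T, inferInstance, i ≫ e.inv, ?_, l, hl, ?_⟩
  · apply BrMax.isMaximalTorus_of_isMaxTorusSub (i ≫ e.inv) hT e
    rw [h2, hTT]
    exact hT'
  · exact hom_ext_lamB (chartId e) hlB'

variable {G P U T : Over (Spec (CommRingCat.of K))} [GrpObj G] [GrpObj P] [GrpObj U] [GrpObj T]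

lemma exists_levi_unit {R : Type u} [CommRing R] {G : Over (Spec (CommRingCat.of R))} [GrpObj G]
    [IsAffineHom G.hom] {lam : Red.Gm (Spec (CommRingCat.of R)) ⟶ G} [IsMonHom lam]
    (g : 𝟙_ (Over (Spec (CommRingCat.of R))) ⟶ G)
    (hg : PtP lam g) : ∃ z v : 𝟙_ (Over (Spec (CommRingCat.of R))) ⟶ G,
      PtZ lam z ∧ PtU lam v ∧ z * v = g := by
  have h1 : LimEx lam (C := R) (c := 𝟙 _) g := ptP_iff.1 hg
  obtain ⟨z, v, hz, hv, hzv⟩ := h1.exists_levi
  exact ⟨z, v, ptZ_iff.2 hz, ptU_iff.2 hv, hzv⟩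

/-- If `P_G(λ)` contains the maximal torus `T` of the reductive group `G`, some conjugate of `λ` by
a point of `U_G(λ)` lies in `T`. -/
theorem exists_conj_cochar (hG : Red.IsReductiveOver K G)
    (lam : Red.Gm (Spec (CommRingCat.of K)) ⟶ G) [IsMonHom lam] {p : P ⟶ G} (hp : IsDynP lam p)
    {u : U ⟶ G} (hu : IsDynU lam u) (t : T ⟶ P) [IsMonHom t] (ht : Red.IsMaximalTorus (t ≫ p)) :
    ∃ (w : 𝟙_ (Over (Spec (CommRingCat.of K))) ⟶ U) (c : Red.Gm (Spec (CommRingCat.of K)) ⟶ T),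
      ∀ (X : Over (Spec (CommRingCat.of K))) (s : X ⟶ Red.Gm (Spec (CommRingCat.of K))),
        s ≫ c ≫ t ≫ p = (toUnit X ≫ w ≫ u) * (s ≫ lam) * (toUnit X ≫ w ≫ u)⁻¹ := by
  have hGa : IsAffine G.left := hG.1
  have hGa' : IsAffineHom G.hom := inferInstance
  have hGs : Smooth G.hom := hG.2.1
  have hGc : ConnectedSpace G.left := hG.2.2.1
  have hpm := hp.isMonHom
  have hpM := hp.mono
  have hpc := hp.isClosedImmersion
  have hPs := hp.smooth
  have hPa : IsAffine P.left := by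
    have : IsAffineHom P.hom := isAffineHom_of_closed p hpc hGa'
    exact isAffine_of_isAffineHom P.hom
  obtain ⟨lamP, hlamP, hlamPp⟩ := exists_lamP hp
  obtain ⟨T₂, _, t₂, ht₂, c₂, hc₂, hc₂t⟩ := exists_maximalTorus_cochar P lamP
  have ht₂m := ht₂.1
  have hpar : Red.IsParabolicOver K p := Uncond688.dynK1 K G P lam p hG hp
  have ht₂' : Red.IsMaximalTorus (t₂ ≫ p) := ((Uncond688.dynK2 K G P p hG hpar).2 T₂ t₂ ht₂).1
  obtain ⟨y, f, hf, hconj⟩ := Par.CanTor.exists_conj_in p t₂ t ht₂' ht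
  -- decomposition of `y`
  obtain ⟨z, v, hz, hv, hzv⟩ := exists_levi_unit (y⁻¹ ≫ p) ((hp.iff_ptP _ _).1 ⟨y⁻¹, rfl⟩)
  obtain ⟨w, hw⟩ := (hu.iff_ptU _ _).2 hv
  have hz' := (ptZ_iff_centralizes z).1 hz
  have hum := hu.isMonHom
  have hw' : w⁻¹ ≫ u = y ≫ p * z := by
    have e1 : y ≫ p * z * v = 1 := by
      rw [_root_.mul_assoc, hzv, GrpObj.inv_comp, mul_inv_cancel]
    rw [GrpObj.inv_comp, hw]
    exact inv_eq_of_mul_eq_one_left e1
  refine ⟨w⁻¹, c₂ ≫ f.hom, fun X s => ?_⟩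
  have h4 : s ≫ (c₂ ≫ f.hom) ≫ t ≫ p = (s ≫ c₂) ≫ (f.hom ≫ t) ≫ p := by
    simp only [Category.assoc]
  have h5 := hz' X (toUnit X) s
  rw [h4, hconj, ← Category.assoc, comp_conjHom, MonObj.mul_comp, MonObj.mul_comp,
    GrpObj.inv_comp, Category.assoc s, hc₂t, Category.assoc, Category.assoc, hlamPp, hw',
    MonObj.comp_mul, _root_.mul_inv_rev, _root_.mul_assoc (toUnit X ≫ y ≫ p) (toUnit X ≫ z), h5]
  group

end Groth.Agent.RedSub.H663.CommuteTor
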