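import Groth.Agent.RedSub.H663.CommuteLang
import Groth.Agent.RedSub.H663.CommuteTor
import Groth.Agent.Sga3B.Parab.ConjLC
import Groth.Agent.Sga3B.AlgBc2

/-!
# Commuting conjugates of two cocharacters over a finite field

`k` finite, `G` reductive over `k`, `α`, `β` cocharacters of `G`: some conjugates of `α`, `β` by
rational points of `U_G(α)`, `U_G(β)` commute.
-/

set_option autoImplicit false
set_option linter.unusedSectionVars false

universe u

open CategoryTheory MonoidalCategory CartesianMonoidalCategory MonObj GrpObj AlgebraicGeometry Limits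
open scoped LaurentPolynomial Polynomial
open Groth.Agent.Books.AffBridge Groth.Agent.Books.AffBridge2
open Groth.Agent.Sga3B Groth.Agent.Sga3C.SubGrp
open Groth.Agent.Sga3B.Parab Groth.Agent.Sga3B.Parab.Chart998 Groth.Agent.Sga3B.Parab.AffPts998
open Groth.Agent.Sga3B.Parab.Dyn998 Groth.Agent.Sga3B.Parab.DynExist998
open Groth.Agent.Sga3B.Parab.DynLevi998 Groth.Agent.Sga3B.Parab.DynClosed998
open Groth.Agent.Sga3B.Par.ConjDyn895
open Groth.Agent.Agf.H617.LangDom Groth.Agent.Agf.H617.FrobPts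
open Groth.Agent.RedSub.H663.CommuteLim Groth.Agent.RedSub.H663.CommuteLang
open Groth.Agent.RedSub.H663.CommuteTor

namespace Groth.Agent.RedSub.H663.CommuteK

/-- Over `K`, any two parabolic subgroups of a reductive group contain a common maximal torus. -/
def CommonTorus (K : Type u) [Field K] : Prop :=
  ∀ (H P₁ Q₁ : Over (Spec (CommRingCat.of K))) [GrpObj H] [GrpObj P₁] [GrpObj Q₁] (p₁ : P₁ ⟶ H)
    (q₁ : Q₁ ⟶ H), Red.IsReductive H → Red.IsParabolic p₁ → Red.IsParabolic q₁ →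
    ∃ (T : Over (Spec (CommRingCat.of K))) (_ : GrpObj T) (i : T ⟶ H), Red.IsMaximalTorus i ∧
      (∃ a : T ⟶ P₁, a ≫ p₁ = i) ∧ ∃ b : T ⟶ Q₁, b ≫ q₁ = i

section Gen

variable {S : Scheme.{u}} {G : Over S} [GrpObj G]

/-- The conjugate cocharacter. -/
noncomputable def cjl (w : 𝟙_ (Over S) ⟶ G) (α : Red.Gm S ⟶ G) : Red.Gm S ⟶ G :=
  (toUnit _ ≫ w) * α * (toUnit _ ≫ w)⁻¹

lemma isConj_cjl (w : 𝟙_ (Over S) ⟶ G) (α : Red.Gm S ⟶ G) : IsConj α w (cjl w α) := by
  intro X t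
  rw [cjl, MonObj.comp_mul, MonObj.comp_mul, GrpObj.comp_inv, ← Category.assoc t,
    toUnit_unique (t ≫ toUnit _) (toUnit X)]

instance isMonHom_cjl (w : 𝟙_ (Over S) ⟶ G) (α : Red.Gm S ⟶ G) [IsMonHom α] :
    IsMonHom (cjl w α) := by
  apply Pts.isMonHom_of_points
  intro X y z
  rw [isConj_cjl, isConj_cjl, isConj_cjl, MonObj.mul_comp]
  group

end Gen

section Bc

variable {S S' : Scheme.{u}} {f : S' ⟶ S} {H G : Over S} [GrpObj H] [GrpObj G]
  {α : Red.Gm S ⟶ G} {h : H ⟶ G}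

lemma conjIn_of_bcEquiv {T : Over S'} {g : (Over.map f).obj T ⟶ G}
    (hg : ConjIn ((Over.pullback f).map h) (bcLam α f) (BcPts.bcEquiv f T G g)) :
    ConjIn h α g := by
  intro X x t
  let X' : Over S' := Over.mk (x.left ≫ T.hom)
  let i : (Over.map f).obj X' ≅ X := Over.isoMk (Iso.refl _) (by
    have h1 := Over.w x
    change 𝟙 _ ≫ X.hom = (x.left ≫ T.hom) ≫ f
    rw [Category.id_comp, ← h1, Category.assoc]
    rfl)
  let x' : X' ⟶ T := Over.homMk x.left
  have hx' : (Over.map f).map x' = i.hom ≫ x := by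
    ext1
    change x.left = 𝟙 _ ≫ x.left
    rw [Category.id_comp]
  obtain ⟨y, hy⟩ := hg X' x' (BcPts.bcEquiv f X' _ (i.hom ≫ t) ≫
    (TorusAlgClosed.dsBcIso f ℤ).hom.hom.hom)
  have h0 : (TorusAlgClosed.dsBcIso (S := S) f ℤ).hom.hom.hom ≫
      (TorusAlgClosed.dsBcIso f ℤ).inv.hom.hom = 𝟙 _ := by
    have := (TorusAlgClosed.dsBcIso (S := S) f ℤ).hom_inv_id
    exact congrArg (fun z => z.hom.hom) this
  have h1 : (BcPts.bcEquiv f X' _ (i.hom ≫ t) ≫ (TorusAlgClosed.dsBcIso f ℤ).hom.hom.hom) ≫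
      bcLam α f = BcPts.bcEquiv f X' G ((i.hom ≫ t) ≫ α) := by
    rw [bcLam, Category.assoc, reassoc_of% h0, ← BcPts.bcEquiv_comp]
  have h3 : ∀ z : (Over.map f).obj X' ⟶ G, BcPts.bcEquiv f X' G z⁻¹ = (BcPts.bcEquiv f X' G z)⁻¹ :=
    fun z => map_inv (BcPts.bcMulEquiv f X' G) z
  rw [h1, ← BcPts.comp_bcEquiv, ← h3, ← BcPts.bcEquiv_mul, ← BcPts.bcEquiv_mul] at hy
  refine ⟨i.inv ≫ (BcPts.bcEquiv f X' H).symm y, ?_⟩
  have h4 : (BcPts.bcEquiv f X' H).symm y ≫ h =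
      ((Over.map f).map x' ≫ g) * ((i.hom ≫ t) ≫ α) * ((Over.map f).map x' ≫ g)⁻¹ := by
    apply (BcPts.bcEquiv f X' G).injective
    rw [BcPts.bcEquiv_comp, Equiv.apply_symm_apply, hy]
  rw [Category.assoc, h4, hx', MonObj.comp_mul, MonObj.comp_mul, GrpObj.comp_inv]
  simp only [Category.assoc, Iso.inv_hom_id_assoc]

lemma conjIn_symm {T : Over S'} {U : Over S} {w : T ⟶ Red.bc f U} (u : U ⟶ G)
    (hw : ConjIn ((Over.pullback f).map h) (bcLam α f) (w ≫ (Over.pullback f).map u)) :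
    ConjIn h α ((BcPts.bcEquiv f T U).symm w ≫ u) := by
  apply conjIn_of_bcEquiv (f := f)
  rw [BcPts.bcEquiv_comp, Equiv.apply_symm_apply]
  exact hw

end Bc

section Geo

variable {k : Type u} [Field k] (K : Type u) [Field K] [Algebra k K]
  {H G U : Over (Spec (CommRingCat.of k))} [GrpObj H] [GrpObj G] [GrpObj U]

lemma conjIn_geo_symm {h : H ⟶ G} {α : Red.Gm (Spec (CommRingCat.of k)) ⟶ G} (u : U ⟶ G)
    {w : 𝟙_ (Over (Spec (CommRingCat.of K))) ⟶ Red.bc (str k K) U}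
    (hw : ConjIn ((Over.pullback (str k K)).map h) (bcLam α (str k K))
      (w ≫ (Over.pullback (str k K)).map u)) :
    ConjIn h α ((geo K U).symm w ≫ u) := by
  have h1 : (geo K U).symm w ≫ u =
      (unitMapIso k K).hom ≫ (BcPts.bcEquiv (str k K) _ U).symm w ≫ u :=
    Category.assoc _ _ _
  rw [h1]
  exact (conjIn_symm u hw).comp _

end Geo

section AlgClosed

variable {K : Type u} [Field K] [IsAlgClosed K]
  {G P Q U Z : Over (Spec (CommRingCat.of K))} [GrpObj G] [GrpObj P] [GrpObj Q] [GrpObj U]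
  [GrpObj Z]

/-- Over `K` algebraically closed, a conjugate of `α` under `U_G(α)(K)` lies in `P_G(β)`. -/
theorem exists_conjIn_parabolic (hCT : CommonTorus K) (hG : Red.IsReductive G)
    (α β : Red.Gm (Spec (CommRingCat.of K)) ⟶ G) [IsMonHom α] [IsMonHom β] {u : U ⟶ G}
    (hu : IsDynU α u) {q : Q ⟶ G} (hq : IsDynP β q) :
    ∃ w : 𝟙_ (Over (Spec (CommRingCat.of K))) ⟶ U, ConjIn q α (w ≫ u) := by
  have hGa := hG.1
  have hGs := hG.2.1
  obtain ⟨P, _, p, hp, -⟩ := exists_isDynP α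
  have hpm := hp.isMonHom
  have hpM := hp.mono
  obtain ⟨T, _, i, hi, ⟨a, ha⟩, b, hb⟩ := hCT G P Q p q hG
    (isParabolic_of_isDynP α Uncond688.dynK1 hG p hp)
    (isParabolic_of_isDynP β Uncond688.dynK1 hG q hq)
  have him := hi.1
  have ham : IsMonHom a := by
    have : IsMonHom (a ≫ p) := by rw [ha]; exact him
    exact isMonHom_of_comp_mono a p
  obtain ⟨w, c, hc⟩ := exists_conj_cochar (AlgBc.isReductive_iff.1 hG) α hp hu a (by rwa [ha])
  refine ⟨w, fun X x s => ⟨s ≫ c ≫ b, ?_⟩⟩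
  rw [Category.assoc, Category.assoc, hb, ← ha, hc, toUnit_unique x (toUnit X)]

/-- Over `K` algebraically closed, if `α` lies in `P_G(β)`, a conjugate of `β` under `U_G(β)(K)`
lies in `Z_G(α)`. -/
theorem exists_conjIn_centralizer (hG : Red.IsReductive G)
    (α β : Red.Gm (Spec (CommRingCat.of K)) ⟶ G) [IsMonHom α] [IsMonHom β] {u : U ⟶ G}
    (hu : IsDynU β u) {q : Q ⟶ G} (hq : IsDynP β q) {z : Z ⟶ G} (hz : IsDynZ α z)
    (α' : Red.Gm (Spec (CommRingCat.of K)) ⟶ Q) (hα' : α' ≫ q = α) :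
    ∃ w : 𝟙_ (Over (Spec (CommRingCat.of K))) ⟶ U, ConjIn z β (w ≫ u) := by
  have hGa := hG.1
  have hGs := hG.2.1
  have hqm := hq.isMonHom
  have hqM := hq.mono
  have hqc := hq.isClosedImmersion
  have hqs := hq.smooth
  have hQa : IsAffine Q.left := by
    have : IsAffineHom Q.hom := isAffineHom_of_closed q hqc hGa
    exact isAffine_of_isAffineHom Q.hom
  have hα'm : IsMonHom α' := by
    have : IsMonHom (α' ≫ q) := by rw [hα']; infer_instance
    exact isMonHom_of_comp_mono α' q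
  obtain ⟨T, _, t, ht, c, hc, hct⟩ := exists_maximalTorus_cochar Q α'
  have htm := ht.1
  have hGo := AlgBc.isReductive_iff.1 hG
  have hT : Red.IsMaximalTorus (t ≫ q) := ((Uncond688.dynK2 K G Q q hGo
    (Uncond688.dynK1 K G Q β q hGo hq)).2 T t ht).1
  obtain ⟨r, ⟨e⟩⟩ := TorusAlgClosed.exists_isSplitTorusWith ht.2.2.1
  obtain ⟨w, d, hd⟩ := exists_conj_cochar hGo β hq hu t hT
  refine ⟨w, fun X x s => ?_⟩
  rw [hz.iff_ptZ, ptZ_iff_centralizes]
  intro X' x' s'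
  rw [toUnit_unique x (toUnit X), ← hd]
  have h1 : s' ≫ α = (s' ≫ c) ≫ t ≫ q := by
    rw [← hα', ← hct]
    simp only [Category.assoc]
  have h2 : x' ≫ s ≫ d ≫ t ≫ q = (x' ≫ s ≫ d) ≫ t ≫ q := by
    simp only [Category.assoc]
  rw [h1, h2, ← MonObj.mul_comp _ _ (t ≫ q), ← MonObj.mul_comp _ _ (t ≫ q),
    ConjLC.comm_of_split e]

end AlgClosed

section Finite

variable {k : Type u} [Field k] [Finite k] {G U V : Over (Spec (CommRingCat.of k))} [GrpObj G]
  [GrpObj U] [GrpObj V]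

/-- **Commuting conjugates**: `α`, `β` cocharacters of the reductive group `G` over a finite field:
conjugates of `α` and `β` under rational points of `U_G(α)` and `U_G(β)` commute. -/
theorem exists_comm (hCT : ∀ (K : Type u) [Field K] [IsAlgClosed K], CommonTorus K)
    (hG : Red.IsReductive G)
    (α β : Red.Gm (Spec (CommRingCat.of k)) ⟶ G) [IsMonHom α] [IsMonHom β] {u : U ⟶ G}
    (hu : IsDynU α u) {v : V ⟶ G} (hv : IsDynU β v) :
    ∃ (a : 𝟙_ (Over (Spec (CommRingCat.of k))) ⟶ U) (b : 𝟙_ (Over (Spec (CommRingCat.of k))) ⟶ V),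
      ∀ (X : Over (Spec (CommRingCat.of k))) (s t : X ⟶ Red.Gm (Spec (CommRingCat.of k))),
        (s ≫ cjl (a ≫ u) α) * (t ≫ cjl (b ≫ v) β) = (t ≫ cjl (b ≫ v) β) * (s ≫ cjl (a ≫ u) α) := by
  have := Fintype.ofFinite k
  let K := AlgebraicClosure k
  have hres : ResAlg.AlgRes (str k K) :=
    ResAlg.algRes_SpecMap K _ (fun x => (Algebra.IsIntegral.isIntegral (R := k) x))
  have hGa := hG.1
  have hGs := hG.2.1
  have hGK : Red.IsReductive (Red.bc (str k K) G) := AlgBc.isReductive_bc (str k K) hG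
  obtain ⟨Q, _, q, hq, -⟩ := exists_isDynP β
  have hqm := hq.isMonHom
  have hqM := hq.mono
  have hqc := hq.isClosedImmersion
  have hqs := hq.smooth
  -- first step
  obtain ⟨w, hw⟩ := exists_conjIn_parabolic (hCT K) hGK (bcLam α (str k K)) (bcLam β (str k K))
    (hu.bc (str k K)) (hq.bc (str k K))
  obtain ⟨a, ha⟩ := exists_rational K q hu ((geo K U).symm w) (conjIn_geo_symm K u hw)
  -- second step
  obtain ⟨α', hα'⟩ := ha _ (toUnit _) (𝟙 (Red.Gm (Spec (CommRingCat.of k))))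
  have hα'' : α' ≫ q = cjl (a ≫ u) α := by
    rw [hα', cjl, Category.id_comp]
  obtain ⟨Z, _, z, hz, -⟩ := exists_isDynZ (cjl (a ≫ u) α)
  have hzm := hz.isMonHom
  have hzM := hz.mono
  have hzc := hz.isClosedImmersion
  have hzs := hz.smooth
  obtain ⟨w', hw'⟩ := exists_conjIn_centralizer hGK (bcLam (cjl (a ≫ u) α) (str k K))
    (bcLam β (str k K)) (hv.bc (str k K)) (hq.bc (str k K)) (hz.bc (str k K))
    (bcLam α' (str k K)) (by rw [← bcLam_comp, hα''])
  obtain ⟨b, hb⟩ := exists_rational K z hv ((geo K V).symm w') (conjIn_geo_symm K v hw')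
  refine ⟨a, b, fun X s t => ?_⟩
  have h1 := (ptZ_iff_centralizes _).1 ((hz.iff_ptZ _ _).1 (hb X (toUnit X) t)) X (𝟙 X) s
  rw [Category.id_comp, ← isConj_cjl (b ≫ v) β X t] at h1
  exact h1.symm

end Finite

end Groth.Agent.RedSub.H663.CommuteK
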