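import Groth.Agent.RedSub.H663.CommuteLim
import Groth.Agent.Agf.H617.FrobPts
import Groth.Agent.Sga3B.Parab.DynGeom678
import Groth.Agent.Sga3B.Parab.Inter
import Mathlib.AlgebraicGeometry.Morphisms.LocalFlatDescent

/-!
# Rational points of `U_G(α)` conjugating `α` into a closed subgroup

`k` finite, `h : H ⟶ G` a smooth closed subgroup, `α` a cocharacter of `G`.  If over an algebraically
closed extension `K` some point of `U_G(α)` conjugates `α` into `H`, then some rational point does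
(Lang's theorem for `U_G(α) ∩ H`).
-/

set_option autoImplicit false
set_option linter.unusedSectionVars false

universe u

open CategoryTheory MonoidalCategory CartesianMonoidalCategory MonObj GrpObj AlgebraicGeometry Limits
open scoped LaurentPolynomial Polynomial
open Groth.Agent.Books.AffBridge Groth.Agent.Books.AffBridge2
open Groth.Agent.Sga3B Groth.Agent.Sga3C.SubGrp
open Groth.Agent.Sga3B.Parab Groth.Agent.Sga3B.Parab.Chart998 Groth.Agent.Sga3B.Parab.AffPts998
open Groth.Agent.Sga3B.Parab.Dyn998 Groth.Agent.Sga3B.Parab.DynExist998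
open Groth.Agent.Sga3B.Parab.DynLevi998 Groth.Agent.Sga3B.Parab.DynClosed998
open Groth.Agent.Sga3B.Par.ConjDyn895
open Groth.Agent.Agf.H617.LangDom Groth.Agent.Agf.H617.FrobPts
open Groth.Agent.RedSub.H663.CommuteLim

namespace Groth.Agent.RedSub.H663.CommuteLang

section Over

variable {S : Scheme.{u}} {H G U N : Over S} [GrpObj H] [GrpObj G] [GrpObj U] [GrpObj N]
  [IsAffineHom G.hom] [Smooth G.hom] {α : Red.Gm S ⟶ G} [IsMonHom α]

/-- `w` in `U_G(α)` conjugates `α` into `H`: then `U_G(α) ∩ H` is `U_H(w α w⁻¹)`. -/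
theorem exists_isDynU (h : H ⟶ G) [IsMonHom h] [IsClosedImmersion h.left] {u : U ⟶ G}
    (hu : IsDynU α u) {a : N ⟶ U} {b : N ⟶ H} [IsMonHom b] (hN : IsPullback a b u h)
    (w : 𝟙_ (Over S) ⟶ U) (hw : ConjIn h α (w ≫ u)) :
    ∃ β : Red.Gm S ⟶ H, IsMonHom β ∧ IsDynU β b := by
  have := hu.isMonHom
  have := hu.mono
  have hmh := mono_of_isClosedImmersion h
  have hmb : Mono b := ⟨fun x y hxy => hN.hom_ext (by
    rw [← cancel_mono u, Category.assoc, Category.assoc, hN.w, reassoc_of% hxy]) hxy⟩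
  obtain ⟨β, hβ⟩ := hw _ (toUnit _) (𝟙 (Red.Gm S))
  have hβ' : ∀ (X : Over S) (t : X ⟶ Red.Gm S),
      t ≫ β ≫ h = (toUnit X ≫ w ≫ u) * (t ≫ α) * (toUnit X ≫ w ≫ u)⁻¹ := by
    intro X t
    rw [hβ, MonObj.comp_mul, MonObj.comp_mul, GrpObj.comp_inv, ← Category.assoc, comp_toUnit,
      Category.id_comp]
  have hc : IsConj α (w ≫ u) (β ≫ h) := hβ'
  have hmon : IsMonHom (β ≫ h) := by
    apply Pts.isMonHom_of_points
    intro X x y
    rw [hβ', hβ', hβ', MonObj.mul_comp]
    group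
  have hβm : IsMonHom β := isMonHom_of_comp_mono β h
  refine ⟨β, hβm, isDynU_of_comp (i := h) fun X g => ?_⟩
  rw [ptU_conj_iff hc, ← hu.iff_ptU, exists_comp_cj_iff]
  constructor
  · rintro ⟨x, rfl⟩
    exact ⟨x ≫ a, by rw [Category.assoc, hN.w, Category.assoc]⟩
  · rintro ⟨x, hx⟩
    exact ⟨hN.lift x g hx, hN.lift_snd _ _ _⟩

end Over

section Bc

variable {S S' : Scheme.{u}} {f : S' ⟶ S} {H G : Over S} [GrpObj H] [GrpObj G]
  {α : Red.Gm S ⟶ G} {h : H ⟶ G}

lemma bcEquiv_bcLam {X : Over S'} (t : X ⟶ Red.Gm S') :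
    BcPts.bcEquiv f X G ((BcPts.bcEquiv f X _).symm
      (t ≫ (TorusAlgClosed.dsBcIso f ℤ).inv.hom.hom) ≫ α) = t ≫ bcLam α f := by
  rw [BcPts.bcEquiv_comp, Equiv.apply_symm_apply, Category.assoc, bcLam]

lemma conjIn_bcEquiv {T : Over S'} {g : (Over.map f).obj T ⟶ G} (hg : ConjIn h α g) :
    ConjIn ((Over.pullback f).map h) (bcLam α f) (BcPts.bcEquiv f T G g) := by
  intro X x t
  obtain ⟨y, hy⟩ := hg ((Over.map f).obj X) ((Over.map f).map x)
    ((BcPts.bcEquiv f X _).symm (t ≫ (TorusAlgClosed.dsBcIso f ℤ).inv.hom.hom))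
  refine ⟨BcPts.bcEquiv f X H y, ?_⟩
  have h3 : ∀ z : (Over.map f).obj X ⟶ G, BcPts.bcEquiv f X G z⁻¹ = (BcPts.bcEquiv f X G z)⁻¹ :=
    fun z => map_inv (BcPts.bcMulEquiv f X G) z
  rw [← BcPts.bcEquiv_comp, hy, BcPts.bcEquiv_mul, BcPts.bcEquiv_mul, h3, BcPts.comp_bcEquiv,
    bcEquiv_bcLam]

end Bc

section Field

variable {k : Type u} [Field k] (K : Type u) [Field K] [Algebra k K] [IsAlgClosed K]
  {H G U N : Over (Spec (CommRingCat.of k))} [GrpObj H] [GrpObj G] [GrpObj U] [GrpObj N]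
  [IsAffineHom G.hom] [Smooth G.hom] {α : Red.Gm (Spec (CommRingCat.of k)) ⟶ G} [IsMonHom α]

/-- `ConjIn` for a `K`-point, on the base change. -/
lemma conjIn_bc (h : H ⟶ G) (g : SpecOver k K ⟶ G) (hg : ConjIn h α g) :
    ConjIn ((Over.pullback (str k K)).map h) (bcLam α (str k K)) (geo K G g) :=
  conjIn_bcEquiv (hg.comp (unitMapIso k K).inv)

/-- If `α` is conjugated into `H` by a `K`-point of `U_G(α)`, then `U_G(α) ∩ H` is smooth and
connected. -/
theorem smooth_connected (h : H ⟶ G) [IsMonHom h] [IsClosedImmersion h.left] [Smooth H.hom]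
    {u : U ⟶ G} (hu : IsDynU α u) {a : N ⟶ U} {b : N ⟶ H} [IsMonHom b] (hN : IsPullback a b u h)
    (e : SpecOver k K ⟶ U) (he : ConjIn h α (e ≫ u)) :
    Smooth N.hom ∧ ConnectedSpace N.left := by
  have h1 : IsAffineHom (Red.bc (str k K) G).hom :=
    inferInstanceAs (IsAffineHom (pullback.snd G.hom (str k K)))
  have h2 : Smooth (Red.bc (str k K) G).hom := inferInstanceAs (Smooth (pullback.snd G.hom (str k K)))
  have h3 : Smooth (Red.bc (str k K) H).hom := inferInstanceAs (Smooth (pullback.snd H.hom (str k K)))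
  have h4 : IsClosedImmersion ((Over.pullback (str k K)).map h).left :=
    Inter.isClosedImmersion_bc _ h ‹_›
  have h5 : IsAffineHom (Red.bc (str k K) H).hom :=
    isAffineHom_of_closed ((Over.pullback (str k K)).map h) h4 h1
  obtain ⟨β, hβ, hb⟩ := exists_isDynU (α := bcLam α (str k K)) ((Over.pullback (str k K)).map h)
    (hu.bc (str k K)) (Inter.isPullback_bc (str k K) hN) (geo K U e) (by
      rw [geo_comp]
      exact conjIn_bc K h (e ≫ u) he)
  have h6 : Smooth (Red.bc (str k K) N).hom := hb.smooth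
  have h7 : ConnectedSpace (Red.bc (str k K) N).left := DynGeom678.connectedSpace_isDynU hb
  have h7' : ConnectedSpace ↥(pullback N.hom (str k K)) := h7
  have hf1 : Flat (str k K) := inferInstance
  have hf2 : Surjective (str k K) := inferInstance
  refine ⟨?_, ?_⟩
  · have h8 : Smooth (pullback.snd N.hom (str k K)) := h6
    exact MorphismProperty.of_pullback_snd_of_descendsAlong
      (Q := @Surjective ⊓ @Flat ⊓ @QuasiCompact) ⟨⟨hf2, hf1⟩, inferInstance⟩ h8
  · exact (pullback.fst N.hom (str k K)).surjective.connectedSpace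
      (pullback.fst N.hom (str k K)).continuous

/-- **Rational points conjugating `α` into `H`.** -/
theorem exists_rational [Fintype k] (h : H ⟶ G) [IsMonHom h] [IsClosedImmersion h.left]
    [Smooth H.hom] {u : U ⟶ G} (hu : IsDynU α u)
    (e : SpecOver k K ⟶ U) (he : ConjIn h α (e ≫ u)) :
    ∃ a : 𝟙_ (Over (Spec (CommRingCat.of k))) ⟶ U, ConjIn h α (a ≫ u) := by
  have hum := hu.isMonHom
  have humono := hu.mono
  have hmh := mono_of_isClosedImmersion h
  obtain ⟨N, _, n₁, n₂, hn₁, hn₂, hN⟩ := Inter.exists_inter u h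
  obtain ⟨hNs, hNc⟩ := smooth_connected K h hu hN e he
  have hHa : IsAffineHom H.hom := isAffineHom_of_closed h ‹_› ‹_›
  have hn₂c : IsClosedImmersion n₂.left :=
    MorphismProperty.of_isPullback (hN.map (Over.forget _)) hu.isClosedImmersion
  have hNa' : IsAffineHom N.hom := isAffineHom_of_closed n₂ hn₂c hHa
  have hNa : IsAffine N.left := isAffine_of_isAffineHom N.hom
  -- points of `U`
  have hlim : ∀ x : SpecOver k K ⟶ U, LimOne α (x ≫ u) := fun x =>
    ptU_iff.1 ((hu.iff_ptU _ _).1 ⟨x, rfl⟩)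
  have hfe : ConjIn h α ((frob k K ≫ e) ≫ u) := by
    rw [Category.assoc]
    exact he.comp _
  have hy' : ∃ y : SpecOver k K ⟶ H, y ≫ h = (e ≫ u) * ((frob k K ≫ e) ≫ u)⁻¹ :=
    mem_of_conjIn (hlim e) (hlim (frob k K ≫ e)) he hfe
  obtain ⟨y, hy⟩ := hy'
  let z : SpecOver k K ⟶ N := hN.lift (e * (frob k K ≫ e)⁻¹) y (by
    rw [hy, MonObj.mul_comp, GrpObj.inv_comp])
  have hz₁ : z ≫ n₁ = e * (frob k K ≫ e)⁻¹ := hN.lift_fst _ _ _
  obtain ⟨g, hg⟩ := exists_lang N K z
  let e' : SpecOver k K ⟶ U := (g ≫ n₁) * e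
  have hfix : frob k K ≫ e' = e' := by
    have h1 : frob k K ≫ g = g * z := by
      rw [hg, mul_inv_cancel_left]
    rw [MonObj.comp_mul, ← Category.assoc, h1, MonObj.mul_comp, hz₁]
    simp only [e']
    group
  have he' : ConjIn h α (e' ≫ u) := by
    have h1 : e' ≫ u = ((g ≫ n₂) ≫ h) * (e ≫ u) := by
      rw [MonObj.mul_comp, Category.assoc, Category.assoc, hN.w]
    rw [h1]
    exact he.mem_mul _
  obtain ⟨a, ha⟩ := exists_of_frob_fixed U e' hfix
  refine ⟨a, ?_⟩
  -- descent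
  have hGm : Smooth (Red.Gm (Spec (CommRingCat.of k))).hom :=
    TorusAlgClosed.prop_of_isSplitTorusWith (P := @Smooth) (M := ℤ) inferInstance ⟨Iso.refl _⟩
  obtain ⟨c, hc⟩ := exists_factor_of_points (K := K) h
    ((toUnit _ ≫ a ≫ u) * α * (toUnit _ ≫ a ≫ u)⁻¹) (by
      intro x
      obtain ⟨m, hm⟩ := he' _ (𝟙 _) x
      refine ⟨m, ?_⟩
      rw [hm, MonObj.comp_mul, MonObj.comp_mul, GrpObj.comp_inv, Category.id_comp, ← ha,
        Category.assoc, ← Category.assoc x, comp_toUnit])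
  intro X x t
  refine ⟨t ≫ c, ?_⟩
  rw [Category.assoc, hc, MonObj.comp_mul, MonObj.comp_mul, GrpObj.comp_inv, ← Category.assoc t,
    comp_toUnit, toUnit_unique x (toUnit X)]

end Field

end Groth.Agent.RedSub.H663.CommuteLang
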