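import Groth.Agent.Sga3B.Parab.DynClosed998
import Groth.Agent.Sga3B.Par.ConjDyn895

/-!
# Points of `U_G(α)` conjugating `α` into a closed subgroup

`h : H ⟶ G` a closed subgroup, `α` a cocharacter of `G`.  `ConjIn h α g`: the point `g` conjugates
`α` into `H`.  If two points of `U_G(α)` conjugate `α` into `H`, their quotient lies in `H`.
-/

set_option autoImplicit false
set_option linter.unusedSectionVars false

universe u

open CategoryTheory MonoidalCategory CartesianMonoidalCategory MonObj GrpObj AlgebraicGeometry Limits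
open scoped LaurentPolynomial Polynomial
open Groth.Agent.Sga3B.Parab Groth.Agent.Sga3B.Parab.Chart998 Groth.Agent.Sga3B.Parab.AffPts998
open Groth.Agent.Sga3B.Parab.Dyn998 Groth.Agent.Sga3B.Parab.DynExist998
open Groth.Agent.Sga3B.Parab.DynLevi998 Groth.Agent.Sga3B.Parab.DynClosed998
open Groth.Agent.Sga3B.Par.ConjDyn895

namespace Groth.Agent.RedSub.H663.CommuteLim

variable {S : Scheme.{u}} {H G : Over S} [GrpObj H] [GrpObj G]

/-- The point `g` conjugates the cocharacter `α` into `H`. -/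
def ConjIn (h : H ⟶ G) (α : Red.Gm S ⟶ G) {T : Over S} (g : T ⟶ G) : Prop :=
  ∀ (X : Over S) (x : X ⟶ T) (t : X ⟶ Red.Gm S),
    ∃ y : X ⟶ H, y ≫ h = (x ≫ g) * (t ≫ α) * (x ≫ g)⁻¹

variable {h : H ⟶ G} {α : Red.Gm S ⟶ G}

lemma ConjIn.comp {T T' : Over S} {g : T ⟶ G} (hg : ConjIn h α g) (x : T' ⟶ T) :
    ConjIn h α (x ≫ g) := by
  intro X x' t
  rw [← Category.assoc]
  exact hg X (x' ≫ x) t

lemma ConjIn.mem_mul [IsMonHom h] {T : Over S} {g : T ⟶ G} (hg : ConjIn h α g) (n : T ⟶ H) :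
    ConjIn h α ((n ≫ h) * g) := by
  intro X x t
  obtain ⟨y, hy⟩ := hg X x t
  refine ⟨(x ≫ n) * y * (x ≫ n)⁻¹, ?_⟩
  rw [MonObj.mul_comp, MonObj.mul_comp, GrpObj.inv_comp, hy, MonObj.comp_mul, Category.assoc]
  group

section Lim

variable {C : Type u} [CommRing C] {c : Spec (CommRingCat.of C) ⟶ S}

/-- If two points of `U_G(α)` conjugate `α` into the closed subgroup `H`, their quotient lies in
`H`. -/
theorem mem_of_conjIn [IsMonHom h] [IsClosedImmersion h.left] [IsMonHom α] {g₁ g₂ : aff C c ⟶ G}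
    (h₁ : LimOne α g₁) (h₂ : LimOne α g₂) (H₁ : ConjIn h α g₁) (H₂ : ConjIn h α g₂) :
    ∃ y : aff C c ⟶ H, y ≫ h = g₁ * g₂⁻¹ := by
  obtain ⟨l, hl, h0⟩ : LimOne α (g₁⁻¹ * g₂) := h₁.inv.mul h₂
  obtain ⟨y₁, hy₁⟩ := H₁ _ (gmPr C c) (tPt C c)
  obtain ⟨y₂, hy₂⟩ := H₂ _ (gmPr C c) (tPt C c)
  obtain ⟨k', hk'⟩ := exists_lift_of_toLin h ((linPr C c ≫ g₁) * l * (linPr C c ≫ g₂)⁻¹)
    (y₁ * y₂⁻¹) (by
      rw [MonObj.comp_mul, MonObj.comp_mul, GrpObj.comp_inv, hl, orb, MonObj.comp_mul,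
        GrpObj.comp_inv, toLin_linPr_assoc, toLin_linPr_assoc, MonObj.mul_comp, GrpObj.inv_comp,
        hy₁, hy₂]
      group)
  refine ⟨zeroSec C c ≫ k', ?_⟩
  rw [Category.assoc, hk', MonObj.comp_mul, MonObj.comp_mul, GrpObj.comp_inv, h0,
    zeroSec_linPr_assoc, zeroSec_linPr_assoc]
  group

end Lim

end Groth.Agent.RedSub.H663.CommuteLim
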