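import Groth.Agent.RedSub.H663.KeyGlue

/-!
# S3981 from the field-level statement `KeyQ`
-/

set_option autoImplicit false

universe u

open CategoryTheory MonoidalCategory CartesianMonoidalCategory MonObj GrpObj AlgebraicGeometry

namespace Groth.Agent.RedSub.H663.Cond3981

open Groth.Agent.Sga3B.Parab

/-- S3981, from the statements `KeyQ` over the residue fields at the closed points. -/
theorem main {A : Type u} [CommRing A]
    (hA : {m : Ideal A | m.IsMaximal}.Finite)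
    (hkey : ∀ s : Spec (CommRingCat.of A), IsClosed {s} →
      KeyGlue.KeyQ ((Spec (CommRingCat.of A)).residueField s))
    {G P P' U U' L Q : Over (Spec (CommRingCat.of A))} [GrpObj G] [GrpObj P] [GrpObj P'] [GrpObj U] [GrpObj U']
    [GrpObj L] [GrpObj Q] (hG : Red.IsReductive G) (p : P ⟶ G) (p' : P' ⟶ G) (q : Q ⟶ G) (hP : Red.IsParabolic p)
    (hP' : Red.IsParabolic p') (hQ : Red.IsParabolic q) (l : L ⟶ P) (l' : L ⟶ P')
    (hL : IsPullback l l' p p') (hl : Par.IsLevi l) (uU : U ⟶ P) (hU : Par.IsUnipotentRadical uU)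
    (uU' : U' ⟶ P') (hU' : Par.IsUnipotentRadical uU')
    (hconj : ∀ s : Spec (CommRingCat.of A), ∃ g : 𝟙_ _ ⟶ Red.geomFibre s G,
      RedSub.ConjEq ((Over.pullback (Red.geomPt s)).map p) ((Over.pullback (Red.geomPt s)).map q) g) :
    ∃ (u : 𝟙_ _ ⟶ U) (u' : 𝟙_ _ ⟶ U') (e : P ≅ Q),
      e.hom ≫ q = (toUnit P ≫ ((u ≫ uU ≫ p) * (u' ≫ uU' ≫ p'))) * p * (toUnit P ≫ ((u ≫ uU ≫ p) * (u' ≫ uU' ≫ p')))⁻¹ := by
  obtain ⟨lam, hlam, h1, -, h2, -, h3⟩ :=
    DynPair.exists_pair hG p p' hP hP' l l' hL hl uU hU uU' hU'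
  exact KeyGlue.main hA hkey lam hG p q h1 hP hQ (uU ≫ p) h2 (uU' ≫ p') h3 hconj

end Groth.Agent.RedSub.H663.Cond3981
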