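import Groth.Agent.Sga3B.Par.LevFin622
import Groth.Agent.Sga3B.Par.ConjOf4
import Groth.Agent.Sga3B.Par.ConjDyn895
import Groth.Agent.Sga3B.Parab.PbAll910
import Groth.Agent.Sga3B.Parab.OppMain151
import Groth.Agent.Sga3B.SplitFin885

/-!
# Opposite parabolic subgroups over an affine base come from one global cocharacter

`G` reductive over `Spec A`, `P`, `P'` parabolic subgroups whose intersection `L` is a Levi subgroup
of `P`: there is a cocharacter `λ` of `G` with `P = P_G(λ)`, `L = Z_G(λ)`, `P' = P_G(-λ)`, and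
`U_G(λ)`, `U_G(-λ)` are the unipotent radicals of `P`, `P'`.
-/

set_option autoImplicit false

universe u

open CategoryTheory MonoidalCategory CartesianMonoidalCategory MonObj GrpObj AlgebraicGeometry

namespace Groth.Agent.RedSub.H663.DynPair

open Groth.Agent.Sga3B Groth.Agent.Sga3B.Parab Groth.Agent.Sga3B.Par

section Gen

variable {S : Scheme.{u}}

/-- Geometric fibres of parabolic subgroups are connected. -/
theorem parConn : OppMain151.ParConn.{u} := fun {_ G P} _ _ p hG hp s =>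
  (Uncond688.dynK2 _ (Red.geomFibre s G) (Red.geomFibre s P)
    ((Over.pullback (Red.geomPt s)).map p) (hG.2.2 s) (hp.2.2.2 s)).1

/-- Two unipotent radicals of `P` are isomorphic over `P`. -/
theorem exists_iso_rad {P U₁ U₂ : Over S} [GrpObj P] [GrpObj U₁] [GrpObj U₂] {u₁ : U₁ ⟶ P}
    {u₂ : U₂ ⟶ P} (h₁ : Par.IsUnipotentRadical u₁) (h₂ : Par.IsUnipotentRadical u₂) :
    ∃ e : U₁ ≅ U₂, e.hom ≫ u₂ = u₁ := by
  have hm₁ := h₁.1
  have hm₂ := h₂.1
  have hc₁ := h₁.2.1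
  have hc₂ := h₂.2.1
  have hmono₁ : Mono u₁ := Groth.Agent.Sga3C.ClosedSub.mono_of_left u₁
  have hmono₂ : Mono u₂ := Groth.Agent.Sga3C.ClosedSub.mono_of_left u₂
  obtain ⟨a, ha⟩ := h₂.2.2.2.2.2.2 U₁ u₁ h₁.2.1 h₁.2.2.1 h₁.2.2.2.1 h₁.2.2.2.2.1 h₁.2.2.2.2.2.1
  obtain ⟨b, hb⟩ := h₁.2.2.2.2.2.2 U₂ u₂ h₂.2.1 h₂.2.2.1 h₂.2.2.2.1 h₂.2.2.2.2.1 h₂.2.2.2.2.2.1
  exact ⟨⟨a, b, by rw [← cancel_mono u₁, Category.assoc, hb, ha, Category.id_comp],
    by rw [← cancel_mono u₂, Category.assoc, ha, hb, Category.id_comp]⟩, ha⟩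

/-- Transport of `IsDynU` along isomorphisms of the source. -/
lemma isDynU_of_iso {G A B : Over S} [GrpObj G] [GrpObj A] [GrpObj B] {lam : Red.Gm S ⟶ G}
    {a : A ⟶ G} {b : B ⟶ G} (hb : IsDynU lam b) (e : A ≅ B) (he : e.hom ≫ b = a)
    (ha : IsMonHom a) : IsDynU lam a where
  isMonHom := ha
  mono := by
    have := hb.mono
    rw [← he]
    infer_instance
  iff_ptU X g := by
    rw [← hb.iff_ptU]
    constructor
    · rintro ⟨x, rfl⟩
      exact ⟨x ≫ e.hom, by rw [Category.assoc, he]⟩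
    · rintro ⟨x, rfl⟩
      exact ⟨x ≫ e.inv, by rw [← he, Category.assoc, Iso.inv_hom_id_assoc]⟩

/-- If `P = P_G(λ)` then `U_G(λ)` is any unipotent radical of `P`. -/
theorem isDynU_of_isUnipotentRadical {G P U : Over S} [GrpObj G] [GrpObj P] [GrpObj U]
    (hG : Red.IsReductive G) (lam : Red.Gm S ⟶ G) [IsMonHom lam] {p : P ⟶ G} (hp : IsDynP lam p)
    {u : U ⟶ P} (hu : Par.IsUnipotentRadical u) : IsDynU lam (u ≫ p) := by
  obtain ⟨U₀, Z₀, _, _, u₀, z₀, hu₀, hz₀, -, hrad, -⟩ :=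
    LeviOfDyn383.exists_all DynGeom678.dynGeomU Uncond688.dynK1 K3b143.dynK3 hG lam p hp
  obtain ⟨e, he⟩ := exists_iso_rad hu hrad
  have := hu.1
  have := hp.isMonHom
  exact isDynU_of_iso hu₀ e (by rw [← Category.assoc, he]) inferInstance

end Gen

section Affine

variable {A : Type u} [CommRing A] {G P P' U U' L : Over (Spec (CommRingCat.of A))}
  [GrpObj G] [GrpObj P] [GrpObj P'] [GrpObj U] [GrpObj U'] [GrpObj L]

/-- **A parabolic subgroup with a Levi subgroup over an affine base is `(P_G(λ), Z_G(λ))`.** -/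
theorem exists_cochar_levi (hG : Red.IsReductive G) (p : P ⟶ G) (hp : Red.IsParabolic p)
    (l : L ⟶ P) (hl : Par.IsLevi l) :
    ∃ lam : Red.Gm (Spec (CommRingCat.of A)) ⟶ G, IsMonHom lam ∧ IsDynP lam p ∧
      IsDynZ lam (l ≫ p) := by
  obtain ⟨lam₀, hlam₀, hp₀⟩ := LevFin622.exists_cochar SplitFin885.splitTStmt hG p hp
  have hpm := hp₀.isMonHom
  have hpmono := hp₀.mono
  obtain ⟨U₀, Z₀, _, _, u₀, z₀, hu₀, hz₀, -, hrad, hlev⟩ :=
    LeviOfDyn383.exists_all DynGeom678.dynGeomU Uncond688.dynK1 K3b143.dynK3 hG lam₀ p hp₀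
  have hum := hrad.1
  obtain ⟨x, ⟨e, he⟩, -⟩ := ConjOf4.main (fun K _ _ => PbAll.k1 K) (fun K _ _ => PbAll.k2 K)
    hG p hp u₀ hrad z₀ l hlev hl
  let w : 𝟙_ (Over (Spec (CommRingCat.of A))) ⟶ G := (x ≫ u₀) ≫ p
  let lam : Red.Gm (Spec (CommRingCat.of A)) ⟶ G := (toUnit _ ≫ w) * lam₀ * (toUnit _ ≫ w)⁻¹
  have hconj : ConjDyn895.IsConj lam₀ w lam := by
    intro X t
    simp only [lam]
    rw [MonObj.comp_mul, MonObj.comp_mul, GrpObj.comp_inv, ← Category.assoc,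
      toUnit_unique (t ≫ toUnit _) (toUnit X)]
  have hlam : IsMonHom lam := by
    apply Pts.isMonHom_of_points
    intro X y z
    rw [hconj, hconj, hconj, MonObj.mul_comp]
    group
  refine ⟨lam, hlam, ConjDyn895.conj_isDynP' hp₀ (x ≫ u₀) hconj, ?_⟩
  have hlm := hl.1
  have hlmono := hl.2.1
  refine ⟨inferInstance, inferInstance, fun X g => ?_⟩
  rw [ConjDyn895.ptZ_conj_iff hconj, ← hz₀.iff_ptZ]
  have he' : ∀ (X : Over (Spec (CommRingCat.of A))) (y : X ⟶ Z₀),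
      (y ≫ e.hom) ≫ l ≫ p = (toUnit X ≫ w) * (y ≫ z₀ ≫ p) * (toUnit X ≫ w)⁻¹ := by
    intro X y
    rw [Category.assoc, ← Category.assoc e.hom, he, MonObj.mul_comp, MonObj.mul_comp,
      GrpObj.inv_comp, MonObj.comp_mul, MonObj.comp_mul, GrpObj.comp_inv]
    simp only [w, Category.assoc, comp_toUnit_assoc]
  constructor
  · rintro ⟨y, rfl⟩
    refine ⟨y ≫ e.inv, ?_⟩
    have h1 := he' X (y ≫ e.inv)
    rw [Category.assoc y, e.inv_hom_id, Category.comp_id] at h1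
    rw [ConjDyn895.cj, h1]
    group
  · rintro ⟨y, hy⟩
    refine ⟨y ≫ e.hom, ?_⟩
    rw [he', hy, ConjDyn895.cj]
    group

/-- **Opposite parabolic subgroups over an affine base come from one global cocharacter.** -/
theorem exists_pair (hG : Red.IsReductive G) (p : P ⟶ G) (p' : P' ⟶ G) (hp : Red.IsParabolic p)
    (hp' : Red.IsParabolic p') (l : L ⟶ P) (l' : L ⟶ P') (hL : IsPullback l l' p p')
    (hl : Par.IsLevi l) (u : U ⟶ P) (hu : Par.IsUnipotentRadical u) (u' : U' ⟶ P')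
    (hu' : Par.IsUnipotentRadical u') :
    ∃ lam : Red.Gm (Spec (CommRingCat.of A)) ⟶ G, IsMonHom lam ∧ IsDynP lam p ∧
      IsDynZ lam (l ≫ p) ∧ IsDynU lam (u ≫ p) ∧ IsDynP (negLam lam) p' ∧
      IsDynU (negLam lam) (u' ≫ p') := by
  obtain ⟨lam, hlam, hP, hZ⟩ := exists_cochar_levi hG p hp l hl
  have hP' : IsDynP (negLam lam) p' := OppMain151.isDynP_opp parConn hG hp' hL lam hP hZ
  exact ⟨lam, hlam, hP, hZ, isDynU_of_isUnipotentRadical hG lam hP hu, hP',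
    isDynU_of_isUnipotentRadical hG (negLam lam) hP' hu'⟩

end Affine

end Groth.Agent.RedSub.H663.DynPair
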