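import Groth.Agent.RedSub.H664.Main
import Groth.Agent.Sga3B.Par.DynDesc383
import Groth.Agent.Sga3B.Parab.LCBc
import Groth.Agent.RedSub.H645.ConjEqIff

/-!
# Base change and descent of the relations `Le`, `Eqv` between cocharacters; `Conj` and `Eqv`
-/

set_option autoImplicit false
set_option linter.unusedSectionVars false

universe u

open CategoryTheory MonoidalCategory CartesianMonoidalCategory MonObj GrpObj AlgebraicGeometry Limits
open Groth.Agent.Sga3B Groth.Agent.Sga3B.Parab Groth.Agent.Sga3B.Parab.Dyn998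
open Groth.Agent.Sga3B.Parab.DynLevi998 Groth.Agent.Sga3B.Parab.DynInter998
open Groth.Agent.Sga3B.Parab.DynExist998 Groth.Agent.Sga3B.Parab.DynBc998
open Groth.Agent.Sga3B.Parab.ConjPt
open Groth.Agent.RedSub.H664.Comb Groth.Agent.RedSub.H664.Calc2 Groth.Agent.RedSub.H664.Calc3
open Groth.Agent.RedSub.H664.Ad Groth.Agent.RedSub.H664.RedFacts Groth.Agent.RedSub.H664.Min

namespace Groth.Agent.RedSub.H663.EqvBc

section Rel

variable {R : Type u} [CommRing R] {G P Q : Over (Spec (CommRingCat.of R))} [GrpObj G] [GrpObj P]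
  [GrpObj Q] {α β : Red.Gm (Spec (CommRingCat.of R)) ⟶ G}

/-- `g P(α) g⁻¹ = P(β)` in terms of `Conj` and of `Eqv`. -/
theorem conj_iff_eqv {p : P ⟶ G} {q : Q ⟶ G} (hp : IsDynP α p) (hq : IsDynP β q)
    (w : 𝟙_ (Over (Spec (CommRingCat.of R))) ⟶ G) : Conj p q w ↔ Eqv β (ad w α) := by
  have h0 : ∀ (X : Over (Spec (CommRingCat.of R))) (g : X ⟶ G),
      PtP (ad w α) g ↔ PtP α (ad w⁻¹ g) := fun X g => pt_ad_iff Kd.P w α g
  constructor
  · intro h
    have h1 : ∀ (X : Over (Spec (CommRingCat.of R))) (g : X ⟶ G), PtP α g ↔ PtP β (ad w g) := by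
      intro X g
      rw [← hp.iff_ptP, ← hq.iff_ptP]
      exact h X (toUnit X) g
    refine ⟨fun X g hg => ?_, fun X g hg => ?_⟩
    · rw [h0, h1, ad_ad_inv]
      exact hg
    · rw [h0, h1, ad_ad_inv] at hg
      exact hg
  · intro h X x y
    have h1 : PtP α y ↔ PtP β (ad w y) := by
      constructor
      · intro hy
        refine h.2 _ _ ?_
        rw [h0, ad_inv_ad]
        exact hy
      · intro hy
        have := h.1 _ _ hy
        rwa [h0, ad_inv_ad] at this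
    rw [toUnit_unique x (toUnit X)]
    exact (hp.iff_ptP X y).trans (h1.trans (hq.iff_ptP X _).symm)

end Rel

section Bc

variable {R R' : Type u} [CommRing R] [CommRing R'] {G : Over (Spec (CommRingCat.of R))} [GrpObj G]
  {α β : Red.Gm (Spec (CommRingCat.of R)) ⟶ G}
  (f : Spec (CommRingCat.of R') ⟶ Spec (CommRingCat.of R))

lemma le_bc (h : Le α β) : Le (bcLam α f) (bcLam β f) := by
  intro X g hg
  rw [ptP_bc_iff] at hg ⊢
  exact h _ _ hg

lemma eqv_bc (h : Eqv α β) : Eqv (bcLam α f) (bcLam β f) := ⟨le_bc f h.1, le_bc f h.2⟩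

/-- The base change of a section. -/
noncomputable def bcSec (w : 𝟙_ (Over (Spec (CommRingCat.of R))) ⟶ G) :
    𝟙_ (Over (Spec (CommRingCat.of R'))) ⟶ Red.bc f G :=
  DSPts.bcEquiv f _ G (toUnit _ ≫ w)

/-- `P(w α w⁻¹)` after base change. -/
lemma eqv_bc_ad (w : 𝟙_ (Over (Spec (CommRingCat.of R))) ⟶ G) :
    Eqv (bcLam (ad w α) f) (ad (bcSec f w) (bcLam α f)) := by
  have key : ∀ (X : Over (Spec (CommRingCat.of R'))) (g : X ⟶ Red.bc f G),
      PtP (bcLam (ad w α) f) g ↔ PtP (ad (bcSec f w) (bcLam α f)) g := by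
    intro X g
    have h1 : PtP (ad w α) ((DSPts.bcEquiv f X G).symm g) ↔
      PtP α (ad w⁻¹ ((DSPts.bcEquiv f X G).symm g)) := pt_ad_iff Kd.P w α _
    have h2 : PtP (ad (bcSec f w) (bcLam α f)) g ↔ PtP (bcLam α f) (ad (bcSec f w)⁻¹ g) :=
      pt_ad_iff Kd.P _ _ _
    have h3 : (DSPts.bcEquiv f X G).symm (toUnit X ≫ bcSec f w) = toUnit _ ≫ w := by
      rw [bcSec, DSPts.bcEquiv_naturality, MulEquiv.symm_apply_apply, ← Category.assoc]
      congr 1
    rw [ptP_bc_iff, h1, h2, ptP_bc_iff]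
    have h4 : (DSPts.bcEquiv f X G).symm (ad (bcSec f w)⁻¹ g) =
        ad w⁻¹ ((DSPts.bcEquiv f X G).symm g) := by
      rw [ad, ad, map_mul, map_mul, map_inv, GrpObj.comp_inv, map_inv, GrpObj.comp_inv, h3]
    rw [h4]
  exact ⟨fun X g hg => (key X g).1 hg, fun X g hg => (key X g).2 hg⟩

/-- Descent of `Le`. -/
theorem le_of_bc [Surjective f] [Flat f] [QuasiCompact f] [IsAffineHom G.hom] [IsMonHom α]
    [IsMonHom β] (h : Le (bcLam α f) (bcLam β f)) : Le α β := by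
  obtain ⟨P, _, p, hp, -⟩ := exists_isDynP α
  obtain ⟨Q, _, q, hq, -⟩ := exists_isDynP β
  have := hq.mono
  have h1 : ∃ x : (Over.pullback f).obj P ⟶ (Over.pullback f).obj Q,
      x ≫ (Over.pullback f).map q = (Over.pullback f).map p := by
    refine ((hq.bc f).iff_ptP _ _).2 (h _ _ (((hp.bc f).iff_ptP _ _).1 ⟨𝟙 _, Category.id_comp _⟩))
  obtain ⟨x, hx⟩ := Par.DynDesc383.exists_factor_of_bc f p q h1
  intro X g hg
  obtain ⟨y, rfl⟩ := (hp.iff_ptP _ _).2 hg
  exact (hq.iff_ptP _ _).1 ⟨y ≫ x, by rw [Category.assoc, hx]⟩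

theorem eqv_of_bc [Surjective f] [Flat f] [QuasiCompact f] [IsAffineHom G.hom] [IsMonHom α]
    [IsMonHom β] (h : Eqv (bcLam α f) (bcLam β f)) : Eqv α β :=
  ⟨le_of_bc f h.1, le_of_bc f h.2⟩

end Bc

end Groth.Agent.RedSub.H663.EqvBc
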