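import Groth.Agent.Sga3B.Parab.SecThrough
import Mathlib.AlgebraicGeometry.Morphisms.ClosedImmersion

/-!
# Lifting of rational points at the closed points of a semi-local base

`A` semi-local, `X` the spectrum of a retract of a polynomial algebra over `A` (`IsAffRet X`), and
for every closed point `s` of `Spec A` a point `w_s` of `X` with values in the residue field of `s`:
there is a section of `X` over `Spec A` inducing all the `w_s`.
-/

set_option autoImplicit false

universe u

open CategoryTheory MonoidalCategory CartesianMonoidalCategory MonObj GrpObj AlgebraicGeometry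
open Groth.Agent.Books.AffBridge

namespace Groth.Agent.RedSub.H663.LiftPts

open Groth.Agent.Sga3B.Parab.SecThrough

section Alg

open MvPolynomial

variable {A : Type u} [CommRing A] {B : Type u} [CommRing B] [Algebra A B]

/-- Points of a retract of an affine space with values in finitely many quotients of `A` with
pairwise comaximal kernels lift to `A`. -/
theorem exists_algHom_lift (hB : IsRetract A B) {J : Type u} [Finite J] (K : J → Type u)
    [∀ s, CommRing (K s)] (ρ : ∀ s, A →+* K s) (hρ : ∀ s, Function.Surjective (ρ s))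
    (hco : Pairwise (Function.onFun IsCoprime fun s => RingHom.ker (ρ s)))
    (φ : ∀ s, B →+* K s) (hφ : ∀ s, (φ s).comp (algebraMap A B) = ρ s) :
    ∃ ψ : B →ₐ[A] A, ∀ s, (ρ s).comp ψ.toRingHom = φ s := by
  obtain ⟨σ, _, i, r, hr⟩ := hB
  choose y hy using fun (s : J) (j : σ) => hρ s (φ s (r (X j)))
  choose c hc using fun j : σ => Ideal.exists_forall_sub_mem_ideal hco fun s => y s j
  have h1 : ∀ s, (ρ s).comp (aeval c : MvPolynomial σ A →ₐ[A] A).toRingHom =
      (φ s).comp r.toRingHom := by
    intro s
    apply MvPolynomial.ringHom_ext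
    · intro a
      have h2 : (aeval c : MvPolynomial σ A →ₐ[A] A) (C a) = a := by
        rw [aeval_C]
        rfl
      have h3 : r (C a) = algebraMap A B a := r.commutes a
      change ρ s ((aeval c : MvPolynomial σ A →ₐ[A] A) (C a)) = φ s (r (C a))
      rw [h2, h3]
      exact (RingHom.congr_fun (hφ s) a).symm
    · intro j
      change ρ s ((aeval c : MvPolynomial σ A →ₐ[A] A) (X j)) = φ s (r (X j))
      rw [aeval_X, ← hy s j]
      have h4 := hc j s
      rw [RingHom.mem_ker, map_sub, sub_eq_zero] at h4
      exact h4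
  refine ⟨(aeval c : MvPolynomial σ A →ₐ[A] A).comp i, fun s => ?_⟩
  have h5 : (ρ s).comp ((aeval c : MvPolynomial σ A →ₐ[A] A).comp i).toRingHom =
      ((ρ s).comp (aeval c : MvPolynomial σ A →ₐ[A] A).toRingHom).comp i.toRingHom := rfl
  rw [h5, h1]
  ext b
  change φ s (r (i b)) = φ s b
  rw [show r (i b) = b from DFunLike.congr_fun hr b]

end Alg

section Sch

variable {A : Type u} [CommRing A]

/-- the ring map `A → κ(s)` -/
noncomputable def resMap (s : Spec (CommRingCat.of A)) :
    A →+* (Spec (CommRingCat.of A)).residueField s :=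
  (Spec.preimage ((Spec (CommRingCat.of A)).fromSpecResidueField s)).hom

lemma specMap_resMap (s : Spec (CommRingCat.of A)) :
    Spec.map (CommRingCat.ofHom (resMap s)) =
      (Spec (CommRingCat.of A)).fromSpecResidueField s := by
  unfold resMap
  exact Spec.map_preimage _

lemma surjective_of_isClosedImmersion {A B : CommRingCat.{u}} (f : A ⟶ B)
    (h : IsClosedImmersion (Spec.map f)) : Function.Surjective f := by
  have h1 := (IsClosedImmersion.isAffine_surjective_of_isAffine (f := Spec.map f)).2
  intro b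
  obtain ⟨a, ha⟩ := h1 ((Scheme.ΓSpecIso B).inv b)
  refine ⟨(Scheme.ΓSpecIso A).hom a, ?_⟩
  have h2 := Scheme.ΓSpecIso_naturality f
  have h3 := congrArg (fun k => CommRingCat.Hom.hom k a) h2
  have h4 : (Scheme.ΓSpecIso B).hom ((Spec.map f).appTop a) = f ((Scheme.ΓSpecIso A).hom a) := h3
  rw [← h4, ha]
  change ((Scheme.ΓSpecIso B).inv ≫ (Scheme.ΓSpecIso B).hom) b = b
  rw [Iso.inv_hom_id]; rfl

lemma resMap_surjective {s : Spec (CommRingCat.of A)} (hs : IsClosed {s}) :
    Function.Surjective (resMap s) := by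
  have h1 : IsClosedImmersion ((Spec (CommRingCat.of A)).fromSpecResidueField s) :=
    isClosed_singleton_iff_isClosedImmersion.1 hs
  rw [← specMap_resMap] at h1
  exact surjective_of_isClosedImmersion _ h1

lemma ker_resMap (s : Spec (CommRingCat.of A)) : RingHom.ker (resMap s) = PrimeSpectrum.asIdeal s := by
  have h1 : Spec.map (CommRingCat.ofHom (resMap s))
      (IsLocalRing.closedPoint ((Spec (CommRingCat.of A)).residueField s)) = s := by
    rw [specMap_resMap]
    exact Scheme.fromSpecResidueField_apply _ _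
  have h2 : PrimeSpectrum.comap (resMap s)
      (IsLocalRing.closedPoint ((Spec (CommRingCat.of A)).residueField s)) = s := h1
  have h3 : (PrimeSpectrum.comap (resMap s)
      (IsLocalRing.closedPoint ((Spec (CommRingCat.of A)).residueField s))).asIdeal =
      PrimeSpectrum.asIdeal s := congrArg PrimeSpectrum.asIdeal h2
  rw [← h3, PrimeSpectrum.comap_asIdeal, RingHom.ker]
  congr 1
  exact (IsLocalRing.isField_iff_maximalIdeal_eq.1 (Field.toIsField _)).symm

lemma finite_closedPts (hA : {m : Ideal A | m.IsMaximal}.Finite) :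
    Finite {s : Spec (CommRingCat.of A) // IsClosed {s}} := by
  have : Finite {m : Ideal A | m.IsMaximal} := hA
  refine Finite.of_injective (β := {m : Ideal A | m.IsMaximal})
    (fun s => ⟨PrimeSpectrum.asIdeal s.1,
      (PrimeSpectrum.isClosed_singleton_iff_isMaximal _).1 s.2⟩) ?_
  intro s t h
  apply Subtype.ext
  exact PrimeSpectrum.ext (congrArg Subtype.val h)

/-- **Lifting of points.** -/
theorem exists_section (hA : {m : Ideal A | m.IsMaximal}.Finite)
    {X : Over (Spec (CommRingCat.of A))} (hX : IsAffRet X)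
    (w : ∀ s : Spec (CommRingCat.of A), IsClosed {s} →
      (Over.mk ((Spec (CommRingCat.of A)).fromSpecResidueField s) ⟶ X)) :
    ∃ a : 𝟙_ (Over (Spec (CommRingCat.of A))) ⟶ X,
      ∀ (s : Spec (CommRingCat.of A)) (hs : IsClosed {s}),
        toUnit (Over.mk ((Spec (CommRingCat.of A)).fromSpecResidueField s)) ≫ a = w s hs := by
  obtain ⟨B, _, _, hB, ⟨e⟩⟩ := hX
  have hfin := finite_closedPts hA
  let φ : ∀ s : {s : Spec (CommRingCat.of A) // IsClosed {s}},
      B →+* (Spec (CommRingCat.of A)).residueField s.1 := fun s =>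
    (Spec.preimage (w s.1 s.2 ≫ e.hom).left).hom
  have hφ' : ∀ s, Spec.map (CommRingCat.ofHom (φ s)) = (w s.1 s.2 ≫ e.hom).left := fun s =>
    Spec.map_preimage _
  have hφ : ∀ s, (φ s).comp (algebraMap A B) = resMap s.1 := by
    intro s
    have h1 : CommRingCat.ofHom (algebraMap A B) ≫ CommRingCat.ofHom (φ s) =
        CommRingCat.ofHom (resMap s.1) := by
      apply Spec.map_injective
      rw [Spec.map_comp, hφ', specMap_resMap]
      exact Over.w (w s.1 s.2 ≫ e.hom)
    exact congrArg CommRingCat.Hom.hom h1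
  have hco : Pairwise (Function.onFun IsCoprime
      fun s : {s : Spec (CommRingCat.of A) // IsClosed {s}} => RingHom.ker (resMap s.1)) := by
    intro s t hst
    rw [Function.onFun, ker_resMap, ker_resMap, Ideal.isCoprime_iff_sup_eq]
    exact Ideal.IsMaximal.coprime_of_ne ((PrimeSpectrum.isClosed_singleton_iff_isMaximal _).1 s.2)
      ((PrimeSpectrum.isClosed_singleton_iff_isMaximal _).1 t.2)
      fun h => hst (Subtype.ext (PrimeSpectrum.ext h))
  obtain ⟨ψ, hψ⟩ := exists_algHom_lift hB (fun s : {s : Spec (CommRingCat.of A) // IsClosed {s}} =>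
    (Spec (CommRingCat.of A)).residueField s.1) (fun s => resMap s.1)
    (fun s => resMap_surjective s.2) hco φ hφ
  have hcomp : Spec.map (CommRingCat.ofHom ψ.toRingHom) ≫ (SpecOver A B).hom = 𝟙 _ := by
    change Spec.map (CommRingCat.ofHom ψ.toRingHom) ≫
      Spec.map (CommRingCat.ofHom (algebraMap A B)) = 𝟙 _
    rw [← Spec.map_comp, ← CommRingCat.ofHom_comp]
    have : ψ.toRingHom.comp (algebraMap A B) = RingHom.id A := ψ.comp_algebraMap
    rw [this]
    exact Spec.map_id _
  let a : 𝟙_ (Over (Spec (CommRingCat.of A))) ⟶ SpecOver A B :=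
    Over.homMk (Spec.map (CommRingCat.ofHom ψ.toRingHom)) hcomp
  refine ⟨a ≫ e.inv, fun s hs => ?_⟩
  have h1 : toUnit (Over.mk ((Spec (CommRingCat.of A)).fromSpecResidueField s)) ≫ a =
      w s hs ≫ e.hom := by
    ext1
    rw [← hφ' ⟨s, hs⟩, ← hψ ⟨s, hs⟩]
    change (Spec (CommRingCat.of A)).fromSpecResidueField s ≫
      Spec.map (CommRingCat.ofHom ψ.toRingHom) = _
    rw [← specMap_resMap, ← Spec.map_comp]
    rfl
  rw [← Category.assoc, h1, Category.assoc, e.hom_inv_id, Category.comp_id]

end Sch

end Groth.Agent.RedSub.H663.LiftPts
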