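import Groth.Agent.RedSub.H663.DynPair
import Groth.Agent.RedSub.H663.GlueUV
import Groth.Agent.RedSub.H663.LiftPts
import Groth.Agent.Sga3B.Parab.UAff
import Groth.Agent.Sga3B.Parab.ConjMain
import Groth.Agent.Sga3B.Parab.LCMain
import Groth.Agent.Sga3B.Parab.PbKN751
import Groth.Agent.Sga3B.RG.PbQ890
import Groth.Agent.Sga3B.ParBc
import Groth.Agent.Sga3B.AlgBc
import Groth.Agent.Sga3B.Parab.Uncond688
import Groth.Agent.RedSub.H645.ConjEqIff
import Groth.Prelude.Def_RedSub

/-!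
# Conjugacy of parabolic subgroups by `u u'` over semi-local rings: reduction to the residue fields

`KeyQ k` is the statement over the field `k`: if `Q` is a parabolic `k`-subgroup of `G` which over
the algebraically closed field `K` is `g P g⁻¹`, `P = P_G(λ)`, then `g` lies in
`U_G(λ)(k) U_G(-λ)(K) P(K)`.
-/

set_option autoImplicit false

universe u

open CategoryTheory MonoidalCategory CartesianMonoidalCategory MonObj GrpObj AlgebraicGeometry

namespace Groth.Agent.RedSub.H663.KeyGlue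

open Groth.Agent.Sga3B Groth.Agent.Sga3B.Parab Groth.Agent.Sga3B.Par
open Groth.Agent.Sga3B.Parab.ConjPt

/-- The statement over the field `k`. -/
def KeyQ (k : Type u) [Field k] : Prop :=
  ∀ (G P Q U V : Over (Spec (CommRingCat.of k))) [GrpObj G] [GrpObj P] [GrpObj Q] [GrpObj U]
    [GrpObj V] (lam : Red.Gm (Spec (CommRingCat.of k)) ⟶ G) [IsMonHom lam] (p : P ⟶ G) (q : Q ⟶ G)
    (u : U ⟶ G) (v : V ⟶ G), Red.IsReductive G → IsDynP lam p → IsDynU lam u →
    IsDynU (negLam lam) v → Red.IsParabolic q →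
    ∀ (K : Type u) [Field K] [IsAlgClosed K] (x : Spec (CommRingCat.of K) ⟶ Spec (CommRingCat.of k))
      (g : Over.mk x ⟶ G), Conj p q g →
      ∃ (a : 𝟙_ (Over (Spec (CommRingCat.of k))) ⟶ U) (b : Over.mk x ⟶ V) (y : Over.mk x ⟶ P),
        g = (toUnit _ ≫ a ≫ u) * ((b ≫ v) * (y ≫ p))

section Bc

variable {S S' : Scheme.{u}}

/-- The statement for the base change of a situation over `S` to a field `k`. -/
theorem key_bc {k : Type u} [Field k] (hk : KeyQ k) (f : Spec (CommRingCat.of k) ⟶ S) [ResAlg.AlgRes f]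
    {G P Q U V : Over S} [GrpObj G] [GrpObj P] [GrpObj Q] [GrpObj U] [GrpObj V]
    (lam : Red.Gm S ⟶ G) [IsMonHom lam] (p : P ⟶ G) (q : Q ⟶ G)
    (u : U ⟶ G) (v : V ⟶ G) (hG : Red.IsReductive G) (hp : IsDynP lam p) (hu : IsDynU lam u)
    (hv : IsDynU (negLam lam) v) (hq : Red.IsParabolic q)
    {K : Type u} [Field K] [IsAlgClosed K] (x : Spec (CommRingCat.of K) ⟶ Spec (CommRingCat.of k))
    (g : Over.mk (x ≫ f) ⟶ G) (hg : Conj p q g) :
    ∃ (a : Over.mk f ⟶ U) (b : Over.mk (x ≫ f) ⟶ V) (y : Over.mk (x ≫ f) ⟶ P),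
      g = ((Over.homMk x : Over.mk (x ≫ f) ⟶ Over.mk f) ≫ a ≫ u) * ((b ≫ v) * (y ≫ p)) := by
  have h1 := hk (Red.bc f G) (Red.bc f P) (Red.bc f Q) (Red.bc f U) (Red.bc f V) (bcLam lam f)
    ((Over.pullback f).map p) ((Over.pullback f).map q) ((Over.pullback f).map u)
    ((Over.pullback f).map v) (AlgBc.isReductive_bc f hG) (hp.bc f) (hu.bc f) (by
      rw [← OppS172.bcLam_negLam]
      exact hv.bc f) (ParBc.isParabolic_bc f hq) K x
  let X : Over (Spec (CommRingCat.of k)) := Over.mk x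
  let g' : (Over.map f).obj X ⟶ G := g
  obtain ⟨a, b, y, h⟩ := h1 (DSPts.bcEquiv f X G g') (by
    rw [LC.conj_bc_iff, MulEquiv.symm_apply_apply]
    exact hg)
  let c : Over.mk f ⟶ (Over.map f).obj (𝟙_ (Over (Spec (CommRingCat.of k)))) :=
    Over.homMk (𝟙 _) (by
      change 𝟙 _ ≫ 𝟙 _ ≫ f = f
      rw [Category.id_comp, Category.id_comp])
  have hc : (Over.homMk x : Over.mk (x ≫ f) ⟶ Over.mk f) ≫ c =
      (Over.map f).map (toUnit X) := by
    ext1
    change x ≫ 𝟙 _ = (toUnit X).left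
    rw [Category.comp_id]
    rfl
  refine ⟨c ≫ (DSPts.bcEquiv f _ U).symm a, (DSPts.bcEquiv f X V).symm b,
    (DSPts.bcEquiv f X P).symm y, ?_⟩
  have e1 : DSPts.bcEquiv f X G (((Over.map f).map (toUnit X) ≫ (DSPts.bcEquiv f _ U).symm a) ≫ u) =
      toUnit X ≫ a ≫ (Over.pullback f).map u := by
    rw [← DSPts.bcEquiv_comp, ← DSPts.bcEquiv_naturality, MulEquiv.apply_symm_apply,
      Category.assoc]
  have e2 : DSPts.bcEquiv f X G ((DSPts.bcEquiv f X V).symm b ≫ v) =
      b ≫ (Over.pullback f).map v := by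
    rw [← DSPts.bcEquiv_comp, MulEquiv.apply_symm_apply]
  have e3 : DSPts.bcEquiv f X G ((DSPts.bcEquiv f X P).symm y ≫ p) =
      y ≫ (Over.pullback f).map p := by
    rw [← DSPts.bcEquiv_comp, MulEquiv.apply_symm_apply]
  have e4 : (Over.homMk x : Over.mk (x ≫ f) ⟶ Over.mk f) ≫
      (c ≫ (DSPts.bcEquiv f _ U).symm a) ≫ u =
      ((Over.map f).map (toUnit X) ≫ (DSPts.bcEquiv f _ U).symm a) ≫ u := by
    rw [← hc]
    simp only [Category.assoc]
  rw [e4]
  apply (DSPts.bcEquiv f X G).injective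
  change DSPts.bcEquiv f X G g' = _
  rw [h, ← e1, ← e2, ← e3, ← map_mul, ← map_mul]

end Bc

section Main

variable {A : Type u} [CommRing A]

/-- **Conjugacy by `u u'` over a semi-local ring** in terms of a global cocharacter, from the
statements `KeyQ` over the residue fields at the closed points. -/
theorem main (hA : {m : Ideal A | m.IsMaximal}.Finite)
    (hkey : ∀ s : Spec (CommRingCat.of A), IsClosed {s} →
      KeyQ ((Spec (CommRingCat.of A)).residueField s))
    {G P Q U V : Over (Spec (CommRingCat.of A))} [GrpObj G] [GrpObj P] [GrpObj Q] [GrpObj U]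
    [GrpObj V] (lam : Red.Gm (Spec (CommRingCat.of A)) ⟶ G) [IsMonHom lam]
    (hG : Red.IsReductive G) (p : P ⟶ G) (q : Q ⟶ G) (hp : IsDynP lam p)
    (hpp : Red.IsParabolic p) (hq : Red.IsParabolic q) (u : U ⟶ G) (hu : IsDynU lam u) (v : V ⟶ G)
    (hv : IsDynU (negLam lam) v)
    (hconj : ∀ s : Spec (CommRingCat.of A), ∃ g : 𝟙_ _ ⟶ Red.geomFibre s G,
      RedSub.ConjEq ((Over.pullback (Red.geomPt s)).map p) ((Over.pullback (Red.geomPt s)).map q) g) :
    ∃ (a : 𝟙_ (Over (Spec (CommRingCat.of A))) ⟶ U) (b : 𝟙_ (Over (Spec (CommRingCat.of A))) ⟶ V)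
      (e : P ≅ Q), e.hom ≫ q =
        (toUnit P ≫ ((a ≫ u) * (b ≫ v))) * p * (toUnit P ≫ ((a ≫ u) * (b ≫ v)))⁻¹ := by
  have haff := hG.1
  have hsm := hG.2.1
  have hpm := hp.isMonHom
  have hpM := hp.mono
  have hqc : IsClosedImmersion q.left := hq.2.1
  have hqM : Mono q := Sga3C.ClosedSub.mono_of_left q
  have hpt : ∀ (s : Spec (CommRingCat.of A)) (hs : IsClosed {s}),
      ∃ (a : Over.mk ((Spec (CommRingCat.of A)).fromSpecResidueField s) ⟶ U)
        (b : Over.mk (Red.geomPt s) ⟶ V) (y : Over.mk (Red.geomPt s) ⟶ P)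
        (g : Over.mk (Red.geomPt s) ⟶ G), Conj p q g ∧
        g = ((Over.homMk (Spec.map (CommRingCat.ofHom (algebraMap
          ((Spec (CommRingCat.of A)).residueField s)
          (AlgebraicClosure ((Spec (CommRingCat.of A)).residueField s))))) :
            Over.mk (Red.geomPt s) ⟶ Over.mk ((Spec (CommRingCat.of A)).fromSpecResidueField s))
          ≫ a ≫ u) * ((b ≫ v) * (y ≫ p)) := by
    intro s hs
    obtain ⟨g, hg⟩ := hconj s
    rw [H645.ConjEqIff.conjEq_bc_iff, H645.ConjEqIff.conjEq_iff] at hg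
    let c : Over.mk (Red.geomPt s) ⟶ (Over.map (Red.geomPt s)).obj (𝟙_ (Over _)) :=
      Over.homMk (𝟙 _) (by
        change 𝟙 _ ≫ 𝟙 _ ≫ Red.geomPt s = Red.geomPt s
        rw [Category.id_comp, Category.id_comp])
    obtain ⟨a, b, y, h⟩ := key_bc (hkey s hs) ((Spec (CommRingCat.of A)).fromSpecResidueField s) lam
      p q u v hG hp hu hv hq (Spec.map (CommRingCat.ofHom (algebraMap
          ((Spec (CommRingCat.of A)).residueField s)
          (AlgebraicClosure ((Spec (CommRingCat.of A)).residueField s))))) (c ≫ _) (hg.comp c)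
    exact ⟨a, b, y, _, hg.comp c, h⟩
  choose a b y g hg hgeq using hpt
  obtain ⟨a₀, ha₀⟩ := LiftPts.exists_section hA (UAff.isAffRet_of_isDynU lam u hu) a
  obtain ⟨b₀, hb₀⟩ := GlueUV.exists_conj p q v
    (fun X g hg => ConjMain.mem_of_conjPt_self
      (PbKN751.isNormalizerOf_of_KN (fun K _ _ => RG.PbQ890.kn K) hG p hpp) hg)
    (DynCell998.isOpenImmersion_cell hp hv)
    (fun s => by
      obtain ⟨g, hg⟩ := hconj s
      rw [H645.ConjEqIff.conjEq_iff] at hg
      exact LC.locConj (fun {S G P} _ _ lam _ p hG hlam s => by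
        have := hG.1
        have := hG.2.1
        exact DynGeom678.isIntegral_geomFibre_isDynP hlam s (hG.2.2 s).2.2.1)
        (fun p hG hp s => Uncond688.locDyn p hG hp s) hG p q hpp hq s ⟨g, hg⟩)
    (a₀ ≫ u)
    (fun Z hZ hZ' => by
      obtain ⟨s, hs, hs'⟩ := hZ.exists_closed_singleton hZ'
      exact ⟨s, hs, hs'⟩)
    (fun s hs => by
      refine ⟨Over.mk (Red.geomPt s), ?_, g s hs, hg s hs, ?_⟩
      · refine ⟨IsLocalRing.closedPoint _, ?_⟩
        change (Spec.map _ ≫ (Spec (CommRingCat.of A)).fromSpecResidueField s) _ = s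
        rw [Scheme.Hom.comp_apply]
        exact Scheme.fromSpecResidueField_apply _ _
      · rw [ConjGlue.mem_cell_iff]
        refine ⟨b s hs, y s hs, ?_⟩
        rw [eq_inv_mul_iff_mul_eq]
        conv_rhs => rw [hgeq s hs]
        congr 1
        rw [← ha₀ s hs]
        simp only [← Category.assoc]
        congr 2)
  obtain ⟨e, he⟩ := ConjLocal.exists_iso hb₀
  exact ⟨a₀, b₀, e, he⟩

end Main

end Groth.Agent.RedSub.H663.KeyGlue
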