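import Groth.Agent.RedSub.H663.EqvBc
import Groth.Agent.RedSub.H663.D5All
import Groth.Agent.RedSub.H663.KeyGlue
import Groth.Agent.RedSub.H657.TrBorel
import Groth.Agent.RedSub.H671.KeyGlue

/-!
# `KeyQ k` from `D5All k`

`G` reductive over a field `k` with `D5All k`, `P = P_G(λ)`, `Q = P_G(μ)` conjugate over an
algebraically closed extension of `k`.  A minimal parabolic subgroup opposite to minimal parabolic
subgroups of `P` and of `Q` is contained in one which is opposite to both `P` and `Q`; so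
`Q = a b P (a b)⁻¹` with `a`, `b` rational points of `U_G(λ)` and `U_G(-λ)`.
-/

set_option autoImplicit false
set_option linter.unusedSectionVars false

universe u

open CategoryTheory MonoidalCategory CartesianMonoidalCategory MonObj GrpObj AlgebraicGeometry Limits
open Groth.Agent.Sga3B Groth.Agent.Sga3B.Parab Groth.Agent.Sga3B.Parab.Dyn998
open Groth.Agent.Sga3B.Parab.DynLevi998 Groth.Agent.Sga3B.Parab.DynInter998
open Groth.Agent.Sga3B.Parab.DynExist998 Groth.Agent.Sga3B.Parab.DynBc998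
open Groth.Agent.Sga3B.Parab.ConjPt
open Groth.Agent.RedSub.H664.Comb Groth.Agent.RedSub.H664.Calc2 Groth.Agent.RedSub.H664.Calc3
open Groth.Agent.RedSub.H664.Ad Groth.Agent.RedSub.H664.RedFacts Groth.Agent.RedSub.H664.Min
open Groth.Agent.RedSub.H664.LeviSub Groth.Agent.RedSub.H663.EqvBc

namespace Groth.Agent.RedSub.H663.KeyD5

section Ring

variable {R : Type u} [CommRing R] {G : Over (Spec (CommRingCat.of R))} [GrpObj G]
  {α lam δ : Red.Gm (Spec (CommRingCat.of R)) ⟶ G} [IsMonHom α] [IsMonHom lam] [IsMonHom δ]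

/-- If `P(δ)` is opposite to `P(α)` and `P(α) ≤ P(λ)`, then `P(δ)` is contained in a `P(λ')`
opposite to `P(λ)`. -/
theorem exists_opp_of_le (hG : Red.IsReductive G) (h5 : D5 G) (h : Le α lam) (ho : Opp δ α) :
    ∃ lam' : Red.Gm (Spec (CommRingCat.of R)) ⟶ G, IsMonHom lam' ∧ Opp lam lam' ∧
      Le δ lam' := by
  have h1 := hG.1
  have h2 := hG.2.1
  obtain ⟨u, hu, hδ⟩ := Opp.exists_conj hG h5 ho.symm
  obtain ⟨w, hw, hc⟩ := H664.Min.exists_comm hG h5 h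
  have h3 : Eqv (ad w lam) lam := eqv_ad hw
  have h4 : Le α (ad w lam) := h.trans h3.2
  have h6 : Le (negLam α) (negLam (ad w lam)) := le_neg hG hc h4
  refine ⟨negLam (ad u (ad w lam)), inferInstance, ⟨ad u (ad w lam), inferInstance, ?_,
    Eqv.refl _⟩, ?_⟩
  · exact (eqv_ad (h4 _ _ hu.ptP)).trans h3
  · rw [negLam_ad]
    exact hδ.1.trans (Le.ad h6 u)

/-- If `P(β) = g P(α) g⁻¹` then `P(-β)` and `P(-α)` are conjugate. -/
theorem exists_conj_neg {β : Red.Gm (Spec (CommRingCat.of R)) ⟶ G} [IsMonHom β]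
    (hG : Red.IsReductive G) (h5 : D5 G) (g : 𝟙_ (Over (Spec (CommRingCat.of R))) ⟶ G)
    (h : Eqv β (ad g α)) : ∃ w : 𝟙_ (Over (Spec (CommRingCat.of R))) ⟶ G,
      Eqv (negLam β) (ad w (negLam α)) := by
  obtain ⟨u, -, hu⟩ := Opp.exists_conj (α := ad g α) (β := negLam β) hG h5
    ⟨β, inferInstance, h, Eqv.refl _⟩
  refine ⟨u * g, ?_⟩
  rw [ad_mul, ← negLam_ad g]
  exact hu

end Ring

section AlgClosed

variable {K : Type u} [Field K] [IsAlgClosed K] {G : Over (Spec (CommRingCat.of K))} [GrpObj G]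
  {α β δ : Red.Gm (Spec (CommRingCat.of K)) ⟶ G} [IsMonHom α] [IsMonHom β] [IsMonHom δ]

/-- Conjugate parabolic subgroups containing a common parabolic subgroup are equal. -/
theorem eqv_of_common (hG : Red.IsReductive G) (h1 : Le δ α) (h2 : Le δ β)
    (w : 𝟙_ (Over (Spec (CommRingCat.of K))) ⟶ G) (h : Eqv β (ad w α)) : Eqv β α := by
  have hGa := hG.1
  have hGs := hG.2.1
  obtain ⟨D, _, d, hd, -⟩ := exists_isDynP δ
  obtain ⟨P, _, p, hp, -⟩ := exists_isDynP α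
  obtain ⟨Q, _, q, hq, -⟩ := exists_isDynP β
  have hdP := isParabolic_of_isDynP δ Uncond688.dynK1 hG d hd
  have hpP := isParabolic_of_isDynP α Uncond688.dynK1 hG p hp
  obtain ⟨-, -, -, B, _, b, hb⟩ := AlgBc.isParabolic_iff.1 hdP
  obtain ⟨x, hx⟩ := (hp.iff_ptP _ _).2 (h1 _ _ ((hd.iff_ptP _ _).1 ⟨𝟙 _, Category.id_comp _⟩))
  obtain ⟨y, hy⟩ := (hq.iff_ptP _ _).2 (h2 _ _ ((hd.iff_ptP _ _).1 ⟨𝟙 _, Category.id_comp _⟩))
  obtain ⟨z, hz⟩ := H657.TrBorel.inP_of_conjEq hG p hpP q (b ≫ d) (AlgBc.isBorel_iff.2 hb)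
    ⟨b ≫ x, by rw [Category.assoc, hx]⟩ ⟨b ≫ y, by rw [Category.assoc, hy]⟩ w
    ((H645.ConjEqIff.conjEq_iff w).2 ((conj_iff_eqv hp hq w).2 h))
  exact h.trans (eqv_ad ((hp.iff_ptP _ _).1 ⟨z, hz⟩))

end AlgClosed

section Field

variable {k : Type u} [Field k]

lemma flat_spec {K : Type u} [Field K] (x : Spec (CommRingCat.of K) ⟶ Spec (CommRingCat.of k)) :
    Flat x := by
  have : Subsingleton (Spec (CommRingCat.of k)) := inferInstanceAs (Subsingleton (PrimeSpectrum k))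
  infer_instance

lemma surjective_spec {K : Type u} [Field K]
    (x : Spec (CommRingCat.of K) ⟶ Spec (CommRingCat.of k)) : Surjective x :=
  ⟨fun _ => ⟨IsLocalRing.closedPoint K, Subsingleton.elim (α := PrimeSpectrum k) _ _⟩⟩

/-- **`KeyQ` from `D5`.** -/
theorem keyQ_of_d5All (h5 : D5All k) : KeyGlue.KeyQ k := by
  intro G P Q U V _ _ _ _ _ lam _ p q u v hG hp hu hv hq K _ _ x g hg
  have hGa := hG.1
  have hGs := hG.2.1
  have h5G := h5 G hG
  obtain ⟨mu, hm, hqm⟩ := Par.LevFin622.exists_cochar SplitFin885.splitTStmt hG q hq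
  -- the opposite of `P` and `Q`
  obtain ⟨α, hα, hαl, hαm⟩ := exists_isMin (α := lam)
  obtain ⟨β, hβ, hβl, hβm⟩ := exists_isMin (α := mu)
  obtain ⟨δ, hδ, hδα, hδβ⟩ := H664.Main.main hG h5 hα hβ hαm hβm
  obtain ⟨lam', hlam', hol, hδl⟩ := exists_opp_of_le hG h5G hαl hδα
  obtain ⟨mu', hm', hom, hδm⟩ := exists_opp_of_le hG h5G hβl hδβ
  obtain ⟨a₀, ha₀, hel⟩ := Opp.exists_conj hG h5G hol
  obtain ⟨a₁, -, hem⟩ := Opp.exists_conj hG h5G hom
  -- over `K`
  have hxf : Flat x := flat_spec x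
  have hxs : Surjective x := surjective_spec x
  have hGK : Red.IsReductive (Red.bc x G) := RedBcAny636.isReductive_bc x hG
  have hGKa : IsAffineHom (Red.bc x G).hom := hGK.1
  have hGKs : Smooth (Red.bc x G).hom := hGK.2.1
  let i : (Over.map x).obj (𝟙_ (Over (Spec (CommRingCat.of K)))) ⟶ Over.mk x :=
    Over.homMk (𝟙 _) (by
      change 𝟙 _ ≫ x = 𝟙 _ ≫ x
      rfl)
  let gK : 𝟙_ (Over (Spec (CommRingCat.of K))) ⟶ Red.bc x G := DSPts.bcEquiv x _ G (i ≫ g)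
  have hgK : Conj ((Over.pullback x).map p) ((Over.pullback x).map q) gK := by
    rw [LC.conj_bc_iff, MulEquiv.symm_apply_apply]
    exact hg.comp i
  have hE0 := (conj_iff_eqv (hp.bc x) (hqm.bc x) gK).1 hgK
  obtain ⟨w, hw⟩ := exists_conj_neg hGK (D5All.d5All_algClosed K _ hGK) gK hE0
  have e1 : Eqv (bcLam mu' x) (ad (bcSec x a₁) (negLam (bcLam mu x))) := by
    rw [← OppS172.bcLam_negLam]
    exact (eqv_bc x hem).trans (eqv_bc_ad x a₁)
  have e2 : Eqv (bcLam lam' x) (ad (bcSec x a₀) (negLam (bcLam lam x))) := by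
    rw [← OppS172.bcLam_negLam]
    exact (eqv_bc x hel).trans (eqv_bc_ad x a₀)
  have e3 : Eqv (negLam (bcLam lam x)) (ad (bcSec x a₀)⁻¹ (bcLam lam' x)) := by
    have := (Eqv.ad e2 (bcSec x a₀)⁻¹).symm
    rwa [ad_inv_ad] at this
  have e4 : Eqv (bcLam mu' x) (ad (bcSec x a₁ * (w * (bcSec x a₀)⁻¹)) (bcLam lam' x)) := by
    rw [ad_mul, ad_mul]
    exact e1.trans (Eqv.ad (hw.trans (Eqv.ad e3 w)) _)
  have e5 : Eqv (bcLam mu' x) (bcLam lam' x) :=
    eqv_of_common hGK (le_bc x hδl) (le_bc x hδm) _ e4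
  have e6 : Eqv mu' lam' := eqv_of_bc x e5
  -- `Q = a b P (a b)⁻¹`
  have h7 : Opp (negLam lam) (ad a₀⁻¹ mu) := by
    have h8 : Opp (ad a₀ (negLam lam)) mu := (hom.congr (Eqv.refl _) (e6.trans hel)).symm
    have h9 := h8.ad a₀⁻¹
    rwa [ad_inv_ad] at h9
  obtain ⟨b₀, hb₀, heb⟩ := Opp.exists_conj hG h5G h7
  rw [negLam_negLam] at heb
  have h10 : Eqv mu (ad (a₀ * b₀) lam) := by
    rw [ad_mul]
    have := Eqv.ad heb a₀
    rwa [ad_ad_inv] at this
  have h11 : Conj p q (a₀ * b₀) := (conj_iff_eqv hp hqm _).2 h10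
  have h12 : Conj p p ((toUnit (Over.mk x) ≫ (a₀ * b₀))⁻¹ * g) := (h11.comp _).inv.mul hg
  obtain ⟨y, hy⟩ := ConjMain.mem_of_conjPt_self
    (PbKN751.isNormalizerOf_of_KN (fun K _ _ => RG.PbQ890.kn K) hG p
      (isParabolic_of_isDynP lam Uncond688.dynK1 hG p hp)) h12
  obtain ⟨a, rfl⟩ := (hu.iff_ptU _ _).2 ha₀
  obtain ⟨b, rfl⟩ := (hv.iff_ptU _ _).2 hb₀
  refine ⟨a, toUnit _ ≫ b, y, ?_⟩
  rw [hy, MonObj.comp_mul, Category.assoc]
  group

/-- `KeyQ` over a finite field. -/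
theorem keyQ_finite [Finite k] : KeyGlue.KeyQ k := keyQ_of_d5All (D5All.d5All_finite k)

end Field

end Groth.Agent.RedSub.H663.KeyD5
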