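import Groth.Agent.RedSub.H663.KeyD5
import Groth.Agent.Sga3B.Parab.SecThrough

/-!
# The covering `G = U P⁻ ... P` over algebraically closed fields and over infinite fields

* `exists_uvp`: over an algebraically closed field `K` one has
  `G(K) = U_G(λ)(K) U_G(-λ)(K) P_G(λ)(K)`;
* `keyAt_infinite`: `KeyAt k` for infinite fields `k`.
-/

set_option autoImplicit false
set_option linter.unusedSectionVars false

universe u

open CategoryTheory MonoidalCategory CartesianMonoidalCategory MonObj GrpObj AlgebraicGeometry Limits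
open Groth.Agent.Sga3B Groth.Agent.Sga3B.Parab Groth.Agent.Sga3B.Parab.Dyn998
open Groth.Agent.Sga3B.Parab.DynLevi998 Groth.Agent.Sga3B.Parab.DynInter998
open Groth.Agent.Sga3B.Parab.DynExist998 Groth.Agent.Sga3B.Parab.DynBc998
open Groth.Agent.Sga3B.Parab.ConjPt Groth.Agent.Sga3B.Parab.SecThrough
open Groth.Agent.RedSub.H664.Comb Groth.Agent.RedSub.H664.Calc2 Groth.Agent.RedSub.H664.Calc3
open Groth.Agent.RedSub.H664.Ad Groth.Agent.RedSub.H664.RedFacts Groth.Agent.RedSub.H664.Min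
open Groth.Agent.RedSub.H664.LeviSub Groth.Agent.RedSub.H663.EqvBc
open Groth.Agent.RedSub.H663.KeyD5

namespace Groth.Agent.RedSub.H663.KeyInf

section AlgClosed

variable {K : Type u} [Field K] [IsAlgClosed K] {G P U V : Over (Spec (CommRingCat.of K))}
  [GrpObj G] [GrpObj P] [GrpObj U] [GrpObj V] (lam : Red.Gm (Spec (CommRingCat.of K)) ⟶ G)
  [IsMonHom lam]

/-- **`G(K) = U(K) V(K) P(K)`.** -/
theorem exists_uvp (hG : Red.IsReductive G) {p : P ⟶ G} {u : U ⟶ G} {v : V ⟶ G}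
    (hp : IsDynP lam p) (hu : IsDynU lam u) (hv : IsDynU (negLam lam) v)
    (g : 𝟙_ (Over (Spec (CommRingCat.of K))) ⟶ G) :
    ∃ (a : 𝟙_ (Over (Spec (CommRingCat.of K))) ⟶ U) (b : 𝟙_ (Over (Spec (CommRingCat.of K))) ⟶ V)
      (y : 𝟙_ (Over (Spec (CommRingCat.of K))) ⟶ P), g = (a ≫ u) * ((b ≫ v) * (y ≫ p)) := by
  have hGa := hG.1
  have hGs := hG.2.1
  have h5 : D5All K := D5All.d5All_algClosed K
  have h5G := h5 G hG
  obtain ⟨α, hα, hαl, hαm⟩ := exists_isMin (α := lam)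
  obtain ⟨β, hβ, hβl, hβm⟩ := exists_isMin (α := ad g lam)
  obtain ⟨δ, hδ, hδα, hδβ⟩ := H664.Main.main hG h5 hα hβ hαm hβm
  obtain ⟨lam', hlam', hol, hδl⟩ := exists_opp_of_le hG h5G hαl hδα
  obtain ⟨mu', hm', hom, hδm⟩ := exists_opp_of_le hG h5G hβl hδβ
  obtain ⟨a₀, ha₀, hel⟩ := Opp.exists_conj hG h5G hol
  obtain ⟨a₁, -, hem⟩ := Opp.exists_conj hG h5G hom
  have e1 : Eqv mu' (ad (a₁ * g) (negLam lam)) := by
    rw [ad_mul, ← negLam_ad g]
    exact hem
  have e3 : Eqv (negLam lam) (ad a₀⁻¹ lam') := by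
    have := (Eqv.ad hel a₀⁻¹).symm
    rwa [ad_inv_ad] at this
  have e4 : Eqv mu' (ad (a₁ * g * a₀⁻¹) lam') := by
    rw [ad_mul (a₁ * g)]
    exact e1.trans (Eqv.ad e3 _)
  have e6 : Eqv mu' lam' := eqv_of_common hG hδl hδm _ e4
  have h7 : Opp (negLam lam) (ad a₀⁻¹ (ad g lam)) := by
    have h8 : Opp (ad a₀ (negLam lam)) (ad g lam) :=
      (hom.congr (Eqv.refl _) (e6.trans hel)).symm
    have h9 := h8.ad a₀⁻¹
    rwa [ad_inv_ad] at h9
  obtain ⟨b₀, hb₀, heb⟩ := Opp.exists_conj hG h5G h7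
  rw [negLam_negLam] at heb
  have h10 : Eqv lam (ad (g⁻¹ * (a₀ * b₀)) lam) := by
    rw [ad_mul, ad_mul]
    have h1 := Eqv.ad (Eqv.ad heb a₀) g⁻¹
    rwa [ad_ad_inv, ad_inv_ad] at h1
  have h11 : Conj p p (g⁻¹ * (a₀ * b₀)) := (conj_iff_eqv hp hp _).2 h10
  obtain ⟨y, hy⟩ := ConjMain.mem_of_conjPt_self
    (PbKN751.isNormalizerOf_of_KN (fun K _ _ => RG.PbQ890.kn K) hG p
      (isParabolic_of_isDynP lam Uncond688.dynK1 hG p hp)) h11
  obtain ⟨a, rfl⟩ := (hu.iff_ptU _ _).2 ha₀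
  obtain ⟨b, rfl⟩ := (hv.iff_ptU _ _).2 hb₀
  have hpm := hp.isMonHom
  refine ⟨a, b, y⁻¹, ?_⟩
  rw [GrpObj.inv_comp, hy]
  group

end AlgClosed

section Ext

variable {k K : Type u} [Field k] [Field K] [IsAlgClosed K]
  {G P U V : Over (Spec (CommRingCat.of k))}
  [GrpObj G] [GrpObj P] [GrpObj U] [GrpObj V] (lam : Red.Gm (Spec (CommRingCat.of k)) ⟶ G)
  [IsMonHom lam]

/-- `G(K) = U(K) V(K) P(K)` for an algebraically closed extension `K` of the base field. -/
theorem exists_uvp_ext (hG : Red.IsReductive G) {p : P ⟶ G} {u : U ⟶ G} {v : V ⟶ G}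
    (hp : IsDynP lam p) (hu : IsDynU lam u) (hv : IsDynU (negLam lam) v)
    (x : Spec (CommRingCat.of K) ⟶ Spec (CommRingCat.of k)) (g : Over.mk x ⟶ G) :
    ∃ (a : Over.mk x ⟶ U) (b : Over.mk x ⟶ V) (y : Over.mk x ⟶ P),
      g = (a ≫ u) * ((b ≫ v) * (y ≫ p)) := by
  have hGK : Red.IsReductive (Red.bc x G) := RedBcAny636.isReductive_bc x hG
  let i : (Over.map x).obj (𝟙_ (Over (Spec (CommRingCat.of K)))) ⟶ Over.mk x :=
    Over.homMk (𝟙 _) (by
      change 𝟙 _ ≫ x = 𝟙 _ ≫ x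
      rfl)
  let j : Over.mk x ⟶ (Over.map x).obj (𝟙_ (Over (Spec (CommRingCat.of K)))) :=
    Over.homMk (𝟙 _) (by
      change 𝟙 _ ≫ 𝟙 _ ≫ x = x
      rw [Category.id_comp, Category.id_comp])
  have hji : j ≫ i = 𝟙 _ := by
    ext1
    exact Category.comp_id _
  obtain ⟨a, b, y, h⟩ := exists_uvp (bcLam lam x) hGK (hp.bc x) (hu.bc x) (by
      rw [← OppS172.bcLam_negLam]
      exact hv.bc x) (DSPts.bcEquiv x _ G (i ≫ g))
  refine ⟨j ≫ (DSPts.bcEquiv x _ U).symm a, j ≫ (DSPts.bcEquiv x _ V).symm b,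
    j ≫ (DSPts.bcEquiv x _ P).symm y, ?_⟩
  have e1 : DSPts.bcEquiv x _ G ((DSPts.bcEquiv x _ U).symm a ≫ u) =
      a ≫ (Over.pullback x).map u := by
    rw [← DSPts.bcEquiv_comp, MulEquiv.apply_symm_apply]
  have e2 : DSPts.bcEquiv x _ G ((DSPts.bcEquiv x _ V).symm b ≫ v) =
      b ≫ (Over.pullback x).map v := by
    rw [← DSPts.bcEquiv_comp, MulEquiv.apply_symm_apply]
  have e3 : DSPts.bcEquiv x _ G ((DSPts.bcEquiv x _ P).symm y ≫ p) =
      y ≫ (Over.pullback x).map p := by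
    rw [← DSPts.bcEquiv_comp, MulEquiv.apply_symm_apply]
  rw [← e1, ← e2, ← e3, ← map_mul, ← map_mul] at h
  have h' := (DSPts.bcEquiv x _ G).injective h
  have h2 : g = j ≫ i ≫ g := by rw [← Category.assoc, hji, Category.id_comp]
  rw [h2, h', MonObj.comp_mul, MonObj.comp_mul, Category.assoc, Category.assoc, Category.assoc]

end Ext

section Density

variable {k : Type u} [Field k]

/-- A retract of an affine space over an infinite field has rational points in all non-empty open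
subsets. -/
theorem exists_rational [Infinite k] {X : Over (Spec (CommRingCat.of k))} (hX : IsAffRet X)
    (W : X.left.Opens) (w : X.left) (hw : w ∈ W) :
    ∃ c : 𝟙_ (Over (Spec (CommRingCat.of k))) ⟶ X, ∀ s, c.left s ∈ W := by
  have hmax : ∀ m : Ideal k, m.IsMaximal → m = ⊥ := fun m hm =>
    (eq_or_ne m ⊥).resolve_right fun h => hm.ne_top ((Ideal.eq_bot_or_top m).resolve_left h)
  obtain ⟨c, hc⟩ := hX.secThrough (A := k)
    (Set.Finite.subset (Set.finite_singleton ⊥) fun m hm => hmax m hm)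
    (fun m hm => by
      obtain rfl := hmax m hm
      exact Infinite.of_injective (Ideal.Quotient.mk (⊥ : Ideal k))
        (RingHom.injective_iff_ker_eq_bot _ |>.2 Ideal.mk_ker)) W
    (fun s => ⟨w, hw, Subsingleton.elim (α := PrimeSpectrum k) _ _⟩)
  refine ⟨c, fun s => hc s ?_⟩
  have h1 : ({s} : Set (PrimeSpectrum k)) = Set.univ :=
    Set.eq_univ_of_forall fun x => Subsingleton.elim (α := PrimeSpectrum k) _ _
  change IsClosed ({s} : Set (PrimeSpectrum k))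
  rw [h1]
  exact isClosed_univ

/-- A non-empty open subset of `X_K`, `X` a retract of an affine space over the infinite field `k`,
contains a point of `X(k)`. -/
theorem exists_rational_ext [Infinite k] {K : Type u} [Field K]
    (x : Spec (CommRingCat.of K) ⟶ Spec (CommRingCat.of k))
    {X : Over (Spec (CommRingCat.of k))} (hX : IsAffRet X)
    (W : (X ⊗ Over.mk x).left.Opens) (w : (X ⊗ Over.mk x).left) (hw : w ∈ W) :
    ∃ c : 𝟙_ (Over (Spec (CommRingCat.of k))) ⟶ X, ∀ s : Spec (CommRingCat.of K),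
      (lift (toUnit (Over.mk x) ≫ c) (𝟙 _)).left s ∈ W := by
  have hsub : Subsingleton (Spec (CommRingCat.of k)) :=
    inferInstanceAs (Subsingleton (PrimeSpectrum k))
  have hfst : IsOpenMap (fst X (Over.mk x)).left := by
    have h1 : UniversallyOpen (fst X (Over.mk x)).left := by
      change UniversallyOpen (pullback.fst X.hom x)
      infer_instance
    exact (fst X (Over.mk x)).left.isOpenMap
  obtain ⟨c, hc⟩ := exists_rational hX
    ⟨(fst X (Over.mk x)).left '' (W : Set _), hfst _ W.2⟩ _ ⟨w, hw, rfl⟩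
  refine ⟨c, fun s => ?_⟩
  obtain ⟨z, hz, hzc⟩ := hc (IsLocalRing.closedPoint k)
  obtain ⟨t, ht1, ht2⟩ := Scheme.Pullback.exists_preimage_pullback z (IsLocalRing.closedPoint k)
    (f := (fst X (Over.mk x)).left) (g := c.left) hzc
  let T : Over (Spec (CommRingCat.of k)) := Over.mk (pullback.fst (fst X (Over.mk x)).left c.left ≫
    (X ⊗ Over.mk x).hom)
  let m : T ⟶ X ⊗ Over.mk x := Over.homMk (pullback.fst (fst X (Over.mk x)).left c.left)
  let n : T ⟶ 𝟙_ (Over (Spec (CommRingCat.of k))) := Over.homMk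
    (pullback.snd (fst X (Over.mk x)).left c.left) (by
      have h1 : (𝟙_ (Over (Spec (CommRingCat.of k)))).hom = c.left ≫ X.hom := (Over.w c).symm
      rw [h1, ← Category.assoc, ← pullback.condition, Category.assoc, Over.w]
      rfl)
  have hmn : m ≫ fst X (Over.mk x) = n ≫ c := by
    ext1
    exact pullback.condition
  have hm : m = (m ≫ snd X (Over.mk x)) ≫ lift (toUnit (Over.mk x) ≫ c) (𝟙 _) := by
    rw [comp_lift, Category.comp_id, ← Category.assoc, toUnit_unique ((m ≫ snd X (Over.mk x)) ≫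
      toUnit (Over.mk x)) n, ← hmn]
    exact CartesianMonoidalCategory.hom_ext _ _ (by rw [lift_fst]) (by rw [lift_snd])
  have h1 : z = (lift (toUnit (Over.mk x) ≫ c) (𝟙 (Over.mk x))).left
      ((m ≫ snd X (Over.mk x)).left t) := by
    rw [← Scheme.Hom.comp_apply, ← Over.comp_left, ← hm]
    exact ht1.symm
  have h2 : s = (m ≫ snd X (Over.mk x)).left t := Subsingleton.elim (α := PrimeSpectrum K) _ _
  rw [h2, ← h1]
  exact hz

end Density

section Main

variable {k : Type u} [Field k]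

/-- **`KeyAt k` for infinite fields `k`.** -/
theorem keyAt_infinite [Infinite k] : H671.KeyGlue.KeyAt k := by
  intro G P U V _ _ _ _ hG lam _ p u v hp hu hv K _ _ x g
  have hGa := hG.1
  have hGs := hG.2.1
  obtain ⟨a, b, y, h⟩ := exists_uvp_ext lam hG hp hu hv x g
  have hcell : IsOpenImmersion ((v ⊗ₘ p) ≫ μ[G]).left := DynCell998.isOpenImmersion_cell hp hv
  let τ : U ⊗ Over.mk x ⟶ G := (fst U (Over.mk x) ≫ u)⁻¹ * (snd U (Over.mk x) ≫ g)
  have hτ : ∀ c : Over.mk x ⟶ U, lift c (𝟙 _) ≫ τ = (c ≫ u)⁻¹ * g := by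
    intro c
    rw [MonObj.comp_mul, GrpObj.comp_inv, ← Category.assoc, ← Category.assoc, lift_fst, lift_snd,
      Category.id_comp]
  let C : G.left.Opens := ((v ⊗ₘ p) ≫ μ[G]).left.opensRange
  let pt : Spec (CommRingCat.of K) := IsLocalRing.closedPoint K
  obtain ⟨c, hc⟩ := exists_rational_ext x (UAff.isAffRet_of_isDynU lam u hu) (τ.left ⁻¹ᵁ C)
    ((lift a (𝟙 _)).left pt) (by
      change (lift a (𝟙 (Over.mk x)) ≫ τ).left pt ∈ C
      have h1 : lift a (𝟙 (Over.mk x)) ≫ τ = lift b y ≫ (v ⊗ₘ p) ≫ μ[G] := by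
        rw [hτ, h, inv_mul_cancel_left, ← Category.assoc, lift_map, Hom.mul_def]
      rw [h1]
      exact ⟨(lift b y).left pt, rfl⟩)
  have hc' : ∀ s, ((lift (toUnit (Over.mk x) ≫ c) (𝟙 _)) ≫ τ).left s ∈ C := hc
  obtain ⟨w, hw⟩ : ∃ w : Over.mk x ⟶ V ⊗ P, w ≫ (v ⊗ₘ p) ≫ μ[G] =
      (lift (toUnit (Over.mk x) ≫ c) (𝟙 _)) ≫ τ := by
    refine ⟨Over.homMk (IsOpenImmersion.lift ((v ⊗ₘ p) ≫ μ[G]).left
      ((lift (toUnit (Over.mk x) ≫ c) (𝟙 _)) ≫ τ).left ?_) ?_, ?_⟩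
    · rintro _ ⟨s, rfl⟩
      exact hc' s
    · rw [← Over.w ((v ⊗ₘ p) ≫ μ[G]), IsOpenImmersion.lift_fac_assoc, Over.w]
    · ext1
      exact IsOpenImmersion.lift_fac _ _ _
  refine ⟨c, w ≫ fst V P, w ≫ snd V P, ?_⟩
  rw [hτ] at hw
  have h2 : w ≫ (v ⊗ₘ p) ≫ μ[G] = ((w ≫ fst V P) ≫ v) * ((w ≫ snd V P) ≫ p) := by
    rw [Hom.mul_def, ← Category.assoc]
    congr 1
    refine CartesianMonoidalCategory.hom_ext _ _ ?_ ?_
    · rw [lift_fst, Category.assoc, tensorHom_fst, Category.assoc]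
    · rw [lift_snd, Category.assoc, tensorHom_snd, Category.assoc]
  rw [_root_.mul_assoc, ← h2, hw, Category.assoc, mul_inv_cancel_left]

/-- `KeyQ` over an infinite field. -/
theorem keyQ_of_keyAt (h : H671.KeyGlue.KeyAt k) : KeyGlue.KeyQ k := by
  intro G P Q U V _ _ _ _ _ lam _ p q u v hG hp hu hv hq K _ _ x g hg
  obtain ⟨a, b, y, e⟩ := h G P U V hG lam p u v hp hu hv K x g
  exact ⟨a, b, y, by rw [e, _root_.mul_assoc]⟩

/-- **`KeyQ` over every field.** -/
theorem keyQ (k : Type u) [Field k] : KeyGlue.KeyQ k := by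
  cases finite_or_infinite k
  · exact keyQ_finite
  · exact keyQ_of_keyAt keyAt_infinite

end Main

end Groth.Agent.RedSub.H663.KeyInf
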